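import Cfsg.Agent.Lib.Recog.MaxNorm.Defs
import Cfsg.Agent.S0809
import Cfsg.Agent.Lib.PSL2.Tori

/-!
Elements of order three, involutions and unipotent subgroups of `PSL₂(F)`.
-/

set_option autoImplicit false
set_option linter.unusedSectionVars false
set_option linter.style.haveILetI false

namespace CfsgLib.Recog.MaxNorm

open Matrix CfsgLib.GLTwo CfsgLib.KnownB.SL2Products CfsgLib.Involutions.SLTwoTori

variable {F : Type*} [Field F] [Fintype F]

local notation "SL2" => Matrix.SpecialLinearGroup (Fin 2) F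
local notation "M2" => Matrix (Fin 2) (Fin 2) F
local notation "PSL2" => Matrix.ProjectiveSpecialLinearGroup (Fin 2) F

theorem pr_ne_one_of_offdiag {g : SL2} (h : (g : M2) 0 1 ≠ 0 ∨ (g : M2) 1 0 ≠ 0) : pr g ≠ 1 := fun e => by
  obtain ⟨h1, h2, -⟩ := pr_eq_one_iff.1 e
  rcases h with h | h
  exacts [h h1, h h2]

/-- The upper unipotent matrices. -/
def unip : Multiplicative F →* SL2 where
  toFun c := ⟨!![1, c.toAdd; 0, 1], by simp [Matrix.det_fin_two]⟩
  map_one' := by ext i j; fin_cases i <;> fin_cases j <;> simp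
  map_mul' a b := Subtype.ext (by
    show (!![1, (a * b).toAdd; 0, 1] : M2) = !![1, a.toAdd; 0, 1] * !![1, b.toAdd; 0, 1]
    simp [Matrix.mul_fin_two, add_comm])

theorem coe_unip (c : Multiplicative F) : (unip c : M2) = !![1, c.toAdd; 0, 1] := rfl

/-- An element of order three inverted by an involution. -/
theorem exists_real_three (h3 : (3 : F) ≠ 0) :
    ∃ x w : PSL2, orderOf x = 3 ∧ orderOf w = 2 ∧ w * x * w⁻¹ = x⁻¹ := by
  haveI := Fact.mk Nat.prime_three
  haveI := Fact.mk Nat.prime_two
  obtain ⟨a, b, hab⟩ : ∃ a b : F, a ^ 2 + a * b + b ^ 2 = -1 := by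
    by_cases h2 : (2 : F) = 0
    · exact ⟨1, 0, by linear_combination h2⟩
    · have hc : (3 / 4 : F) ≠ 0 :=
        div_ne_zero h3 (by rw [show (4 : F) = 2 * 2 by norm_num]; exact mul_ne_zero h2 h2)
      have hodd : Fintype.card F % 2 = 1 := by
        by_contra hh
        refine h2 ?_
        have hc2 : ringChar F = 2 := FiniteField.even_card_iff_char_two.2 (by omega)
        haveI := ringChar.of_eq hc2
        exact CharTwo.two_eq_zero
      obtain ⟨s, b, hsb⟩ := FiniteField.exists_root_sum_quadratic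
        (f := (Polynomial.X : Polynomial F) ^ 2)
        (g := Polynomial.C (3 / 4 : F) * Polynomial.X ^ 2 + Polynomial.C 1)
        (Polynomial.degree_X_pow 2)
        (by rw [Polynomial.degree_add_C (by rw [Polynomial.degree_C_mul_X_pow 2 hc]; norm_num),
          Polynomial.degree_C_mul_X_pow 2 hc]; rfl) hodd
      simp only [Polynomial.eval_add, Polynomial.eval_mul, Polynomial.eval_pow, Polynomial.eval_X,
        Polynomial.eval_C] at hsb
      refine ⟨s - b / 2, b, ?_⟩
      have h4 : (4 : F) ≠ 0 := by rw [show (4 : F) = 2 * 2 by norm_num]; exact mul_ne_zero h2 h2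
      field_simp at hsb ⊢
      linear_combination hsb
  let X : SL2 := ⟨!![0, -1; 1, -1], by simp [Matrix.det_fin_two]⟩
  let W : SL2 := ⟨!![a, b; a + b, -a], by simp [Matrix.det_fin_two]; linear_combination -hab⟩
  have hX3 : X ^ 3 = 1 := by
    ext i j
    simp only [Matrix.SpecialLinearGroup.coe_mul, Matrix.SpecialLinearGroup.coe_pow, Matrix.SpecialLinearGroup.coe_neg, Matrix.SpecialLinearGroup.coe_one]
    fin_cases i <;> fin_cases j <;> simp [X, pow_succ, Matrix.mul_apply, Fin.sum_univ_two]
  have hW2 : W * W = -1 := by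
    ext i j
    simp only [Matrix.SpecialLinearGroup.coe_mul, Matrix.SpecialLinearGroup.coe_pow, Matrix.SpecialLinearGroup.coe_neg, Matrix.SpecialLinearGroup.coe_one]
    fin_cases i <;> fin_cases j <;> simp [W, Matrix.mul_apply, Fin.sum_univ_two] <;>
      first | linear_combination hab | ring
  have hWX : W * X = X⁻¹ * W := by
    rw [eq_inv_mul_iff_mul_eq]
    ext i j
    simp only [Matrix.SpecialLinearGroup.coe_mul, Matrix.SpecialLinearGroup.coe_pow, Matrix.SpecialLinearGroup.coe_neg, Matrix.SpecialLinearGroup.coe_one]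
    fin_cases i <;> fin_cases j <;> simp [X, W, Matrix.mul_apply, Fin.sum_univ_two] <;> ring
  refine ⟨pr X, pr W, orderOf_eq_prime ?_ (pr_ne_one_of_offdiag (Or.inr (by simp [X]))),
    orderOf_eq_prime ?_ ?_, ?_⟩
  · rw [← map_pow, hX3, map_one]
  · rw [sq, ← map_mul, hW2, pr_neg, map_one]
  · intro e
    obtain ⟨h1, h2, h3'⟩ := pr_eq_one_iff.1 e
    simp [W] at h1 h2 h3'
    refine one_ne_zero (α := F) ?_
    rw [h1, add_zero] at h2
    rw [h1, h2] at hab
    linear_combination hab
  · rw [mul_inv_eq_iff_eq_mul, ← map_inv, ← map_mul, ← map_mul, hWX]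

theorem sq_eq_one_of_even (he : Even (Fintype.card F)) {t m : PSL2} (ht : orderOf t = 2)
    (hm : Commute m t) : m * m = 1 := by
  haveI : CharP F 2 := ringChar.of_eq (FiniteField.even_card_iff_char_two.2 (Nat.even_iff.1 he))
  have hinj : Function.Injective (pr (F := F)) := by
    refine (injective_iff_map_eq_one _).2 fun g hg => ?_
    obtain ⟨h01, h10, h00⟩ := pr_eq_one_iff.1 hg
    have hdet := g.2
    rw [Matrix.det_fin_two, h01, h10, ← h00, mul_zero, sub_zero] at hdet
    have h1 : (g : M2) 0 0 = 1 := by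
      rcases mul_self_eq_one_iff.1 hdet with h | h
      · exact h
      · rw [h, CharTwo.neg_eq]
    ext i j
    fin_cases i <;> fin_cases j <;> simp [h01, h10, ← h00, h1]
  obtain ⟨s, rfl⟩ := pr_surjective t
  obtain ⟨g, rfl⟩ := pr_surjective m
  have hns : ¬ IsScalar2 (s : M2) := fun h => by
    rw [pr_eq_one_iff.2 h, orderOf_one] at ht
    exact absurd ht (by norm_num)
  have hgs : g * s = s * g := hinj (by rw [map_mul, map_mul]; exact hm)
  obtain ⟨a, b, hab, -⟩ := exists_coord hns (Subgroup.mem_centralizer_singleton_iff.2 hgs)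
  have hss : (s : M2) * (s : M2) = 1 := congrArg Subtype.val (show s * s = 1 from hinj (by
    rw [map_mul, map_one, ← sq]; exact orderOf_dvd_iff_pow_eq_one.1 (dvd_of_eq ht)))
  rw [← map_mul, pr_eq_one_iff, Matrix.SpecialLinearGroup.coe_mul, hab]
  have h2 : (a • (1 : M2) + b • (s : M2)) * (a • (1 : M2) + b • (s : M2)) =
      (a * a + b * b) • (1 : M2) + (a * b + b * a) • (s : M2) := by
    simp only [add_mul, mul_add, smul_mul_assoc, mul_smul_comm, one_mul, mul_one, hss, add_smul, smul_add, smul_smul]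
    abel
  rw [h2, mul_comm b a, CharTwo.add_self_eq_zero, zero_smul, add_zero]
  exact isScalar2_smul_one _

/-- An involution with a large centraliser. -/
theorem exists_big_centralizer (hodd : Odd (Fintype.card F)) :
    ∃ t : PSL2, orderOf t = 2 ∧
      (Fintype.card F % 4 = 1 → Fintype.card F - 1 ∣ Nat.card (Subgroup.centralizer ({t} : Set PSL2))) ∧
      (Fintype.card F % 4 = 3 → Fintype.card F + 1 ∣ Nat.card (Subgroup.centralizer ({t} : Set PSL2))) := by
  haveI := Fact.mk Nat.prime_two
  let S : SL2 := ⟨!![0, 1; -1, 0], by simp [Matrix.det_fin_two]⟩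
  have htr : (S : M2).trace = 0 := by simp [S, Matrix.trace_fin_two]
  have hS4 : orderOf S = 2 ^ (1 + 1) := orderOf_trace_zero hodd htr
  have hS2 : S * S = -1 := by
    ext i j
    simp only [Matrix.SpecialLinearGroup.coe_mul, Matrix.SpecialLinearGroup.coe_pow, Matrix.SpecialLinearGroup.coe_neg, Matrix.SpecialLinearGroup.coe_one]
    fin_cases i <;> fin_cases j <;> simp [S, Matrix.mul_apply, Fin.sum_univ_two]
  have hne : pr S ≠ 1 := pr_ne_one_of_offdiag (Or.inl (by simp [S]))
  have hto : orderOf (pr S) = 2 := orderOf_eq_prime (by rw [sq, ← map_mul, hS2, pr_neg, map_one]) hne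
  set A := Subgroup.zpowers S with hA
  have hcardA : Nat.card A = 4 := by rw [hA, Nat.card_zpowers, hS4]; rfl
  obtain ⟨-, h1, h3, -⟩ := Cfsg.Agent.S0809.result (F := F) rfl hodd A hcardA
  set N := Subgroup.normalizer (A : Set SL2) with hN
  let φ := pr.comp N.subtype
  have hle : φ.range ≤ Subgroup.centralizer ({pr S} : Set PSL2) := by
    rintro _ ⟨⟨n, hn⟩, rfl⟩
    show pr n ∈ _
    rw [Subgroup.mem_centralizer_singleton_iff, ← mul_inv_eq_iff_eq_mul, ← map_inv, ← map_mul, ← map_mul]
    obtain ⟨k, hk⟩ := conj_mem_of_mem_normalizer hn (Subgroup.mem_zpowers S)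
    have hk' : S ^ k = n * S * n⁻¹ := hk
    rw [← hk', map_zpow]
    have hk1 : pr S ^ k = 1 ∨ pr S ^ k = pr S := by
      rw [← zpow_mod_orderOf, hto]
      rcases Int.emod_two_eq_zero_or_one k with e | e
      · left; push_cast; rw [e, zpow_zero]
      · right; push_cast; rw [e, zpow_one]
    refine hk1.resolve_left fun e => hne ?_
    rw [← map_zpow, hk', map_mul, map_mul, map_inv, conj_eq_one_iff] at e
    exact e
  have hm1 : (-1 : SL2) ∈ N := Subgroup.le_normalizer (by
    rw [← hS2]; exact mul_mem (Subgroup.mem_zpowers S) (Subgroup.mem_zpowers S))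
  have hker : Nat.card φ.ker = 2 := by
    have e : φ.ker = Subgroup.zpowers (⟨-1, hm1⟩ : N) := by
      refine le_antisymm (fun n hn => ?_) ((Subgroup.zpowers_le).2 ?_)
      · rcases scalar_eq (pr_eq_one_iff.1 hn) with h | h
        · rw [show n = 1 from Subtype.ext h]; exact one_mem _
        · rw [show n = (⟨-1, hm1⟩ : N) from Subtype.ext h]; exact Subgroup.mem_zpowers _
      · show pr (-1 : SL2) = 1
        rw [pr_neg, map_one]
    rw [e, Nat.card_zpowers]
    refine orderOf_eq_prime (Subtype.ext (by simp [sq])) fun h => ?_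
    exact one_ne_neg_one hodd (congrArg Subtype.val h).symm
  have hcard : Nat.card φ.range * 2 = Nat.card N := by
    have h := φ.ker.index_mul_card
    rwa [hker, Subgroup.index_ker] at h
  refine ⟨pr S, hto, fun hm => ?_, fun hm => ?_⟩
  · refine dvd_trans (dvd_of_eq ?_) (Subgroup.card_dvd_of_le hle)
    have := h1 hm
    rw [← hcard] at this
    omega
  · refine dvd_trans (dvd_of_eq ?_) (Subgroup.card_dvd_of_le hle)
    have := h3 hm
    rw [← hcard] at this
    omega

theorem psl_of_pgl {G : Type*} [Group G] [IsSimpleGroup G]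
    (h : Nonempty (G ≃* Matrix.ProjGenLinGroup (Fin 2) F)) : Nonempty (G ≃* PSL2) := by
  obtain ⟨e⟩ := h
  haveI : IsSimpleGroup (Matrix.ProjGenLinGroup (Fin 2) F) :=
    e.symm.isSimpleGroup
  have htop : CfsgLib.PSL2.pslRange F = ⊤ := by
    refine ((CfsgLib.PSL2.normal_pslRange (F := F)).eq_bot_or_eq_top).resolve_left fun hb => ?_
    have h1 : ProjectiveSpecialLinearGroup.toPGL (n := Fin 2) (R := F)
        (pr ⟨!![1, 1; 0, 1], by simp [Matrix.det_fin_two]⟩) = 1 :=
      Subgroup.mem_bot.1 (hb ▸ ⟨_, rfl⟩)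
    exact pr_ne_one_of_offdiag (Or.inl (by simp))
      ((map_eq_one_iff _ ProjectiveSpecialLinearGroup.toPGL_injective).1 h1)
  exact ⟨e.trans (MulEquiv.ofBijective _ ⟨ProjectiveSpecialLinearGroup.toPGL_injective,
    MonoidHom.range_eq_top.1 htop⟩).symm⟩

/-- In characteristic three the diagonal elements prevent rigidity. -/
theorem not_rigid_char_three (h3 : (3 : F) = 0) (hq : 3 < Fintype.card F) : ¬ Rigid PSL2 := by
  intro rig
  haveI := Fact.mk Nat.prime_three
  haveI : CharP F 3 := by
    obtain ⟨p, hp⟩ := CharP.exists F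
    have h := (CharP.cast_eq_zero_iff F p 3).1 (by exact_mod_cast h3)
    rcases (Nat.dvd_prime Nat.prime_three).1 h with rfl | rfl
    · exact absurd hp fun hp' => CharP.char_ne_one F 1 rfl
    · exact hp
  let u : Multiplicative F →* SL2 := unip
  set φ := pr.comp u with hφ
  have hinj : ∀ c : Multiplicative F, φ c = 1 → c = 1 := fun c hc => by
    by_contra hne
    exact pr_ne_one_of_offdiag (g := u c) (Or.inl (by simpa [u, coe_unip] using hne)) hc
  set x := φ (Multiplicative.ofAdd 1) with hx
  have hx3 : orderOf x = 3 := by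
    refine orderOf_eq_prime ?_ fun e => ?_
    · rw [hx, ← map_pow, ← ofAdd_nsmul, nsmul_eq_mul, mul_one,
        show ((3 : ℕ) : F) = 0 by exact_mod_cast h3, ofAdd_zero, map_one]
    · exact one_ne_zero (α := F) (by simpa using congrArg Multiplicative.toAdd (hinj _ e))
  have hC : Subgroup.centralizer ({x} : Set PSL2) = φ.range := by
    refine le_antisymm (fun m hm => ?_) ?_
    · obtain ⟨g, rfl⟩ := pr_surjective m
      rw [Subgroup.mem_centralizer_singleton_iff, hx, hφ, MonoidHom.comp_apply] at hm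
      set v := u (Multiplicative.ofAdd 1) with hv
      have h1 : pr ((v * g)⁻¹ * (g * v)) = 1 := by
        rw [map_mul, map_inv, map_mul, map_mul, hm, inv_mul_cancel]
      have hgv : g * v = v * g := by
        rcases scalar_eq (pr_eq_one_iff.1 h1) with h | h
        · exact (inv_mul_eq_one.1 h).symm
        · exfalso
          have e1 : g * v * g⁻¹ = -v := by
            rw [inv_mul_eq_iff_eq_mul.1 h, mul_neg, mul_one, neg_mul, mul_inv_cancel_right]
          have := trace_eq_of_isConj_sl (isConj_iff.2 ⟨g, e1⟩)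
          simp [v, u, coe_unip, Matrix.trace_fin_two] at this
          refine one_ne_zero (α := F) ?_
          linear_combination this + (-1 : F) * h3
      have hns : ¬ IsScalar2 (v : M2) := fun h => one_ne_zero (α := F) (by simpa [v, u, coe_unip] using h.1)
      obtain ⟨a, b, hab, hdet⟩ := exists_coord hns (Subgroup.mem_centralizer_singleton_iff.2 hgv)
      have hs : (a + b) * (a + b) = 1 := by
        simp [v, u, coe_unip, Matrix.trace_fin_two] at hdet
        linear_combination hdet
      refine ⟨Multiplicative.ofAdd ((a + b) * b), ?_⟩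
      show pr (u _) = pr g
      rcases mul_self_eq_one_iff.1 hs with e | e
      · congr 1
        apply Subtype.ext
        rw [hab]
        ext i j
        fin_cases i <;> fin_cases j <;> simp [v, u, coe_unip, e]
      · rw [← pr_neg g]
        congr 1
        apply Subtype.ext
        rw [Matrix.SpecialLinearGroup.coe_neg, hab]
        ext i j
        fin_cases i <;> fin_cases j <;> simp [v, u, coe_unip, e] <;> linear_combination -e
    · rintro _ ⟨c, rfl⟩
      rw [Subgroup.mem_centralizer_singleton_iff, hx, ← map_mul, ← map_mul, mul_comm]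
  have hP : IsPGroup 3 φ.range := by
    rintro ⟨_, c, rfl⟩
    refine ⟨1, Subtype.ext ?_⟩
    show φ c ^ 3 ^ 1 = 1
    obtain ⟨c, rfl⟩ := Multiplicative.ofAdd.surjective c
    rw [pow_one, ← map_pow, ← ofAdd_nsmul, nsmul_eq_mul,
      show ((3 : ℕ) : F) = 0 by exact_mod_cast h3, zero_mul, ofAdd_zero, map_one]
  have hbot : φ.range ≠ ⊥ := fun e => by
    have : x = 1 := Subgroup.mem_bot.1 (e ▸ ⟨_, rfl⟩)
    rw [this, orderOf_one] at hx3
    omega
  have hN : Subgroup.normalizer (φ.range : Set PSL2) ≤ Subgroup.normalizer (Subgroup.zpowers x : Set PSL2) := by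
    refine rig _ _ (Rigid.small_zpowers Nat.prime_three hx3) (small_of_isPGroup Nat.prime_three hP)
      (Rigid.zpowers_ne_bot' Nat.prime_three hx3) hbot fun α hα v hv => ?_
    rw [← hC, Subgroup.mem_centralizer_singleton_iff] at hv ⊢
    have hzp : Subgroup.zpowers (α x) = Subgroup.zpowers x := by
      refine Subgroup.eq_of_le_of_card_ge (Subgroup.zpowers_le.2 (hα x (Subgroup.mem_zpowers x))) ?_
      rw [Nat.card_zpowers, Nat.card_zpowers]
      exact (orderOf_injective α.toMonoidHom α.injective x).ge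
    obtain ⟨k, hk⟩ := (hzp.ge (Subgroup.mem_zpowers x) : x ∈ Subgroup.zpowers (α x))
    have hk' : α x ^ k = x := hk
    have h1 : Commute (α v) (α x) := Commute.map hv α.toMonoidHom
    exact hk' ▸ h1.zpow_right k
  -- the diagonal elements
  obtain ⟨a, ha⟩ := IsCyclic.exists_generator (α := Fˣ)
  let d : SL2 := ⟨!![(a : F), 0; 0, (a⁻¹ : Fˣ)], by simp [Matrix.det_fin_two]⟩
  have hd : ∀ c : F, d * u (Multiplicative.ofAdd c) * d⁻¹ = u (Multiplicative.ofAdd ((a : F) * a * c)) := by
    intro c
    rw [mul_inv_eq_iff_eq_mul]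
    ext i j
    simp only [Matrix.SpecialLinearGroup.coe_mul]
    fin_cases i <;> fin_cases j <;> simp [d, u, coe_unip, Matrix.mul_apply, Fin.sum_univ_two]
    field_simp
  have hdN : pr d ∈ Subgroup.normalizer (φ.range : Set PSL2) := by
    refine mem_normalizer_of_forall ?_
    rintro _ ⟨c, rfl⟩
    obtain ⟨c, rfl⟩ := Multiplicative.ofAdd.surjective c
    exact ⟨Multiplicative.ofAdd ((a : F) * a * c),
      by rw [hφ, MonoidHom.comp_apply, MonoidHom.comp_apply, ← map_inv, ← map_mul, ← map_mul, hd]⟩
  obtain ⟨k, hk⟩ := mem_normalizer_zpowers.1 (hN hdN)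
  have hk' : x ^ k = pr d * x * (pr d)⁻¹ := hk
  have hk2 : φ (Multiplicative.ofAdd (k : F)) = φ (Multiplicative.ofAdd ((a : F) * a)) := by
    have e : φ (Multiplicative.ofAdd (k : F)) = x ^ k := by
      rw [hx, ← map_zpow, ← ofAdd_zsmul, zsmul_eq_mul, mul_one]
    rw [e, hk', hx, hφ, MonoidHom.comp_apply, MonoidHom.comp_apply, ← map_inv, ← map_mul, ← map_mul, hd,
      mul_one]
  have hka : (k : F) = (a : F) * a := by
    have := hinj ((Multiplicative.ofAdd (k : F))⁻¹ * Multiplicative.ofAdd ((a : F) * a))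
      (by rw [map_mul, map_inv, hk2, inv_mul_cancel])
    exact Multiplicative.ofAdd.injective (inv_mul_eq_one.1 this)
  have ha4 : a ^ 4 = 1 := by
    refine Units.ext ?_
    rw [Units.val_pow_eq_pow_val, Units.val_one]
    have hk3 : (k : F) = ((k % 3 : ℤ) : F) := by
      conv_lhs => rw [← Int.emod_add_mul_ediv k 3]
      push_cast
      rw [h3, zero_mul, add_zero]
    rcases (show k % 3 = 0 ∨ k % 3 = 1 ∨ k % 3 = 2 by omega) with e | e | e <;> rw [hk3, e] at hka <;>
      push_cast at hka
    · exact absurd hka.symm (mul_ne_zero a.ne_zero a.ne_zero)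
    · linear_combination (-((a : F) * a) - 1) * hka
    · linear_combination (-((a : F) * a) - 2) * hka + h3
  have hcardu : Nat.card Fˣ ∣ 4 := by
    rw [← orderOf_eq_card_of_forall_mem_zpowers ha]
    exact orderOf_dvd_of_pow_eq_one ha4
  rw [Nat.card_units, Nat.card_eq_fintype_card] at hcardu
  have := Nat.le_of_dvd (by norm_num) hcardu
  obtain ⟨n, -, hn⟩ := FiniteField.card F 3
  have h3q : 3 ∣ Fintype.card F := hn ▸ dvd_pow_self 3 n.ne_zero
  have hb : Fintype.card F ≤ 5 := by omega
  interval_cases Fintype.card F <;> omega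

end CfsgLib.Recog.MaxNorm
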