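import Cfsg.Agent.Lib.Recog.MaxNorm.Cent
import Cfsg.Agent.Lib.Recog.MaxNorm.PSLFacts
import Cfsg.Agent.Lib.Recog.CIT.Main
import Cfsg.Agent.Lib.Recog.OrderSixty
import Cfsg.Agent.Lib.Recog.FiveOrbits
import Cfsg.Agent.Lib.PrimeDegreeTI.Transfer
import Cfsg.Agent.Lib.PSL2.Congr
import Cfsg.Agent.Lib.Involutions.ZStar.Main
import Cfsg.Agent.S3331

/-!
The rigid simple groups are `PSL₂(p)` for `p = 7, 11, 13`.
-/

set_option autoImplicit false
set_option linter.unusedSectionVars false
set_option linter.style.haveILetI false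

namespace CfsgLib.Recog.MaxNorm

open Subgroup CfsgLib.Involutions CfsgLib.Involutions.SLTwoTori

universe u

section General

variable {T : Type*} [Group T] [Finite T]

theorem Rigid.of_equiv {T' : Type*} [Group T'] [Finite T'] (e : T ≃* T') (h : Rigid T) : Rigid T' := by
  intro H K hH hK h1 h2 hs
  have card : ∀ L : Subgroup T', Nat.card (L.comap e.toMonoidHom) = Nat.card L := fun L => by
    rw [comap_equiv_eq_map_symm']
    exact card_map_of_injective e.symm.injective
  have ne : ∀ L : Subgroup T', L ≠ ⊥ → L.comap e.toMonoidHom ≠ ⊥ := fun L hL e' => hL (by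
    rw [← card_eq_one, ← card L, e', card_bot])
  have h' := h (H.comap e.toMonoidHom) (K.comap e.toMonoidHom) (by rw [card]; exact hH)
    (by rw [card]; exact hK) (ne H h1) (ne K h2) fun α hα v hv => by
      have := hs ((e.symm.trans α).trans e) (fun w hw => hα (e.symm w) (by simpa using hw)) (e v) hv
      simpa using this
  intro g hg
  have hg' : e.symm g ∈ normalizer ((K.comap e.toMonoidHom : Subgroup T) : Set T) := by
    refine mem_normalizer_of_forall fun v hv => ?_
    simpa using conj_mem_of_mem_normalizer hg hv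
  refine mem_normalizer_of_forall fun v hv => ?_
  simpa using conj_mem_of_mem_normalizer (h' hg') (v := e.symm v) (by simpa using hv)

theorem Rigid.centralizer_three (rig : Rigid T) {x w : T} (hx : orderOf x = 3) (hw : orderOf w = 2)
    (hinv : w * x * w⁻¹ = x⁻¹) (hno : ∀ t : T, orderOf t = 2 → ∀ y : T, Commute y t → orderOf y ≠ 3) :
    centralizer (zpowers x : Set T) = zpowers x := by
  haveI := Fact.mk Nat.prime_three
  haveI := Fact.mk Nat.prime_two
  have hwx : ¬ Commute w x := fun h => hno w hw x h.symm hx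
  have hww := invol_mul_self hw
  have hwn : w ∉ zpowers x := fun h => by
    obtain ⟨i, hi⟩ := h
    have hi' : x ^ i = w := hi
    exact hwx (hi' ▸ (Commute.refl x).zpow_left i)
  refine le_antisymm (fun y hy => ?_) fun y hy => ?_
  swap
  · rw [mem_centralizer_iff]
    rintro _ ⟨i, rfl⟩
    obtain ⟨j, rfl⟩ := hy
    exact (Commute.zpow_zpow_self x i j).eq
  have hyx : Commute y x := (mem_centralizer_iff.1 hy x (mem_zpowers x)).symm
  obtain ⟨i, hi⟩ := conj_mem_of_inverts rig Nat.prime_three (by norm_num) hx hww hinv hwn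
    (m := y) (by rw [hyx.eq, mul_inv_cancel_right]; exact mem_zpowers x)
  have hi' : x ^ i = y * w * y⁻¹ * w := hi
  set j := 2 * i with hj
  have h2 : x ^ (2 * j) = x ^ i := zpow_eq_zpow_iff_modEq.2 (by
    rw [hx]; exact Int.modEq_iff_dvd.2 ⟨-i, by rw [hj]; push_cast; ring⟩)
  set b := x ^ (-j) * y with hb
  have hbx : Commute b x := ((Commute.refl x).zpow_left _).mul_left hyx
  have hbw : Commute b w := by
    have e1 : y * w = x ^ i * w * y := by
      rw [hi', mul_assoc (y * w * y⁻¹), hww, mul_one, inv_mul_cancel_right]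
    have e2 : w * x ^ (-j) = x ^ j * w := mul_inv_eq_iff_eq_mul.1 (by
      rw [← conj_zpow, hinv, inv_zpow, ← zpow_neg, neg_neg])
    show b * w = w * b
    rw [hb, mul_assoc, e1, ← mul_assoc w, e2, ← h2, ← mul_assoc, ← mul_assoc, ← zpow_add,
      show -j + 2 * j = j by ring]
  by_cases hb1 : b = 1
  · have : y = x ^ j := by
      rw [hb, zpow_neg, inv_mul_eq_one] at hb1
      exact hb1.symm
    rw [this]; exact zpow_mem (mem_zpowers x) j
  exfalso
  obtain ⟨k, r, hr, -, hk⟩ := exists_prime_pow hb1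
  have hr2 : r ≠ 2 := fun e => hno (b ^ k) (hk.trans e) x (hbx.pow_left k).symm hx
  have hr3 : r ≠ 3 := fun e => hno w hw (b ^ k) (hbw.pow_left k) (hk.trans e)
  have D : GD w (b ^ k) r := ⟨hw, hr, hr2, hk, (hbw.pow_left k).symm⟩
  have h1 := rig.commute_norm Nat.prime_three hr (Ne.symm hr3) hx hk (hbx.pow_left k).symm
  rw [D.norm_eq rig] at h1
  have h3 : x ∈ centralizer ({w} : Set T) := h1 ▸ le_normalizer (mem_zpowers x)
  exact hno w hw x (mem_centralizer_singleton_iff.1 h3) hx

theorem noIso_of_simple {T : Type u} [Group T] [Finite T] [IsSimpleGroup T]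
    (hnc : ∃ a b : T, a * b ≠ b * a) : NoIso T := by
  intro t ht
  by_contra hno
  push Not at hno
  have hiso : Cfsg.IsIsolatedInvolution t :=
    ⟨ht, fun g hg => by
      by_contra hne
      exact hno g hne hg⟩
  have hns : ¬ Group.IsSolvable T := fun h => by
    obtain ⟨a, b, hab⟩ := hnc
    exact hab (IsSimpleGroup.comm_iff_isSolvable.2 h a b)
  have hO : Cfsg.oddCore T = ⊥ := by
    haveI hn : (Cfsg.oddCore T).Normal := by unfold Cfsg.oddCore; infer_instance
    refine hn.eq_bot_or_eq_top.resolve_right fun e => hns ?_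
    have hodd := CfsgLib.Base.odd_card_oddCore T
    rw [e, card_top] at hodd
    exact CfsgLib.FT.isSolvable_of_odd hodd
  have hc := ZStar.mem_center_of_oddCore_eq_bot hiso hO
  have hZ : center T = ⊤ := by
    refine (Normal.eq_bot_or_eq_top inferInstance).resolve_left fun e => invol_ne_one ht ?_
    exact mem_bot.1 (e ▸ hc)
  obtain ⟨a, b, hab⟩ := hnc
  exact hab ((mem_center_iff.1 (hZ ▸ mem_top b)) a)

theorem card_ge_sixty [IsSimpleGroup T] (hnc : ∃ a b : T, a * b ≠ b * a) : 60 ≤ Nat.card T := by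
  by_contra h
  push Not at h
  obtain ⟨a, b, hab⟩ := hnc
  exact hab (IsSimpleGroup.comm_iff_isSolvable.2 (CfsgLib.Recog.isSolvable_of_card_lt_sixty h) a b)

theorem card_or_iso_of_selfcentral [IsSimpleGroup T] (hnc : ∃ a b : T, a * b ≠ b * a) {x : T}
    (hx : orderOf x = 3) (hC : centralizer (zpowers x : Set T) = zpowers x) :
    Nat.card T = 60 ∨ Nonempty (T ≃* Matrix.ProjectiveSpecialLinearGroup (Fin 2) (ZMod 7)) := by
  have h60 := card_ge_sixty hnc
  rcases Cfsg.Agent.S3331.result (zpowers x) (by rw [Nat.card_zpowers, hx]) hC with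
    ⟨N, hN, -, -, hq⟩ | ⟨N, hN, -, -, ⟨e⟩⟩ | h
  · exfalso
    have hcard : Nat.card (T ⧸ N) = 3 ∨ Nat.card (T ⧸ N) = 6 := by
      rcases hq with h | ⟨⟨e⟩⟩
      · exact Or.inl h
      · right; rw [Nat.card_congr e.toEquiv, Nat.card_perm, Nat.card_fin]; rfl
    have h1 := card_eq_card_quotient_mul_card_subgroup N
    rcases hN.eq_bot_or_eq_top with e | e <;> subst e
    · rw [card_bot, mul_one] at h1; omega
    · haveI : Subsingleton (T ⧸ (⊤ : Subgroup T)) := QuotientGroup.subsingleton_quotient_top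
      rw [Nat.card_of_subsingleton (1 : T ⧸ (⊤ : Subgroup T))] at hcard; omega
  · left
    have hA : Nat.card (T ⧸ N) = 60 := by
      rw [Nat.card_congr e.toEquiv, nat_card_alternatingGroup, Nat.card_fin]; rfl
    have h1 := card_eq_card_quotient_mul_card_subgroup N
    rcases hN.eq_bot_or_eq_top with e | e <;> subst e
    · rw [card_bot, mul_one] at h1; omega
    · haveI : Subsingleton (T ⧸ (⊤ : Subgroup T)) := QuotientGroup.subsingleton_quotient_top
      rw [Nat.card_of_subsingleton (1 : T ⧸ (⊤ : Subgroup T))] at hA; omega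
  · exact Or.inr h

theorem card_dvd_factorial [IsSimpleGroup T] (H : Subgroup T) (hH : H ≠ ⊤) :
    Nat.card T ∣ H.index.factorial := by
  have hk : (MulAction.toPermHom T (T ⧸ H)).ker = ⊥ := by
    rw [← normalCore_eq_ker]
    exact (normalCore_normal H).eq_bot_or_eq_top.resolve_right fun e =>
      hH (top_unique (e ▸ normalCore_le H))
  have := card_dvd_of_injective _ ((MonoidHom.ker_eq_bot_iff _).1 hk)
  rwa [Nat.card_perm] at this

theorem false_of_cit_sixty [IsSimpleGroup T] (hnc : ∃ a b : T, a * b ≠ b * a) (rig : Rigid T)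
    (hcit : CIT.CIT T) (h60 : Nat.card T = 60) : False := by
  haveI := Fact.mk Nat.prime_two
  obtain ⟨P⟩ : Nonempty (Sylow 2 T) := inferInstance
  have hP : Nat.card P = 4 := by
    rw [P.card_eq_multiplicity, h60]
    have : (60 : ℕ).factorization 2 = 2 := by
      rw [show (60 : ℕ) = 2 ^ 2 * 15 by norm_num, Nat.factorization_mul (by norm_num) (by norm_num),
        Finsupp.add_apply, Nat.Prime.factorization_pow (by norm_num), Finsupp.single_eq_same,
        Nat.factorization_eq_zero_of_not_dvd (by norm_num)]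
    rw [this]; rfl
  have hP' : Nat.card (P : Subgroup T) = 2 ^ 2 := by simpa using hP
  obtain ⟨⟨t, htP⟩, ht⟩ := exists_prime_orderOf_dvd_card' 2 (G := (P : Subgroup T)) (by rw [hP']; norm_num)
  rw [Subgroup.orderOf_mk] at ht
  have hcomm : ∀ a b : (P : Subgroup T), a * b = b * a := IsPGroup.commutative_of_card_eq_prime_sq hP'
  have hle : (P : Subgroup T) ≤ centralizer {t} := fun a ha =>
    mem_centralizer_singleton_iff.2 (congrArg Subtype.val (hcomm ⟨a, ha⟩ ⟨t, htP⟩))
  have hC : centralizer ({t} : Set T) = P := P.is_maximal' (hcit t ht) hle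
  have hN := rig.normalizer_centralizer ht (small_of_isPGroup Nat.prime_two (hcit t ht))
  rw [hC] at hN
  refine CfsgLib.PrimeDegreeTI.burnside_contradiction hnc P (fun e => ?_) ?_
  · rw [e, card_bot] at hP'; norm_num at hP'
  · rw [hN]
    exact fun a ha => mem_centralizer_iff.2 fun b hb =>
      congrArg Subtype.val (hcomm ⟨b, hb⟩ ⟨a, ha⟩)

end General

section Good

theorem good_cases {T : Type u} [Group T] [Finite T] [IsSimpleGroup T] (hnc : ∃ a b : T, a * b ≠ b * a)
    (rig : Rigid T) {z : T} (hz : Good z) :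
    Nonempty (T ≃* Matrix.ProjectiveSpecialLinearGroup (Fin 2) (ZMod 11)) ∨
      Nonempty (T ≃* Matrix.ProjectiveSpecialLinearGroup (Fin 2) (ZMod 13)) := by
  have hI := noIso_of_simple hnc
  obtain ⟨x, q, D⟩ := hz
  have hns : ¬ Group.IsSolvable T := fun h => by
    obtain ⟨a, b, hab⟩ := hnc
    exact hab (IsSimpleGroup.comm_iff_isSolvable.2 h a b)
  have h60 := card_ge_sixty hnc
  obtain ⟨N, hN, hcN, F, iF, iFt, hF3, hiso⟩ := D.classify rig hI hns
  have hNb : N = ⊥ := by
    refine hN.eq_bot_or_eq_top.resolve_right fun e => ?_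
    subst e
    haveI : Subsingleton (T ⧸ (⊤ : Subgroup T)) := QuotientGroup.subsingleton_quotient_top
    rcases hiso with ⟨⟨e⟩⟩ | ⟨⟨e⟩⟩
    · obtain ⟨a, ha⟩ : ∃ a : Matrix.ProjectiveSpecialLinearGroup (Fin 2) F, a ≠ 1 :=
        ⟨_, pr_ne_one_of_offdiag (g := ⟨!![1, 1; 0, 1], by simp [Matrix.det_fin_two]⟩) (Or.inl (by simp))⟩
      exact ha (e.symm.injective (Subsingleton.elim _ _))
    · obtain ⟨a, ha⟩ : ∃ a : Matrix.ProjGenLinGroup (Fin 2) F, a ≠ 1 :=
        ⟨Matrix.ProjectiveSpecialLinearGroup.toPGL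
            (CfsgLib.KnownB.SL2Products.pr ⟨!![1, 1; 0, 1], by simp [Matrix.det_fin_two]⟩),
          fun h => pr_ne_one_of_offdiag (g := ⟨!![1, 1; 0, 1], by simp [Matrix.det_fin_two]⟩)
          (Or.inl (by simp)) ((map_eq_one_iff _ Matrix.ProjectiveSpecialLinearGroup.toPGL_injective).1 h)⟩
      exact ha (e.symm.injective (Subsingleton.elim _ _))
  subst hNb
  obtain ⟨e⟩ : Nonempty (T ≃* Matrix.ProjectiveSpecialLinearGroup (Fin 2) F) := by
    rcases hiso with ⟨⟨e⟩⟩ | ⟨⟨e⟩⟩
    · exact ⟨QuotientGroup.quotientBot.symm.trans e⟩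
    · exact psl_of_pgl ⟨QuotientGroup.quotientBot.symm.trans e⟩
  have rigP := rig.of_equiv e
  haveI : IsSimpleGroup (Matrix.ProjectiveSpecialLinearGroup (Fin 2) F) := e.symm.isSimpleGroup
  have hodd : Odd (Fintype.card F) := by
    by_contra hev
    rw [Nat.not_odd_iff_even] at hev
    have h1 := sq_eq_one_of_even hev ((MulEquiv.orderOf_eq e z).trans D.oz)
      (D.comm.symm.map e.toMonoidHom)
    have h2 : orderOf (e x) ∣ 2 := orderOf_dvd_of_pow_eq_one (by rw [sq]; exact h1)
    rw [MulEquiv.orderOf_eq e x, D.ox] at h2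
    exact D.odd ((Nat.prime_dvd_prime_iff_eq D.hq Nat.prime_two).1 h2)
  have hchar : (3 : F) ≠ 0 := fun h => not_rigid_char_three h hF3 rigP
  -- all involutions are conjugate
  have hall : ∀ t : T, orderOf t = 2 → ∃ y, GD t y q := by
    intro t ht
    let S : Matrix.SpecialLinearGroup (Fin 2) F := ⟨!![0, 1; -1, 0], by simp [Matrix.det_fin_two]⟩
    obtain ⟨-, -, -, hconj⟩ := Cfsg.Agent.S0809.result (F := F) rfl hodd (zpowers S)
      (by rw [Nat.card_zpowers, orderOf_trace_zero hodd (by simp [S, Matrix.trace_fin_two])]; rfl)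
    obtain ⟨c, hc⟩ := isConj_iff.1 (hconj (e z) (e t) ((MulEquiv.orderOf_eq e z).trans D.oz)
      ((MulEquiv.orderOf_eq e t).trans ht))
    have hc' : e.symm c * z * (e.symm c)⁻¹ = t := e.injective (by simpa using hc)
    refine ⟨e.symm c * x * (e.symm c)⁻¹, ⟨ht, D.hq, D.odd, ?_, ?_⟩⟩
    · exact (orderOf_injective (MulAut.conj _).toMonoidHom (MulAut.conj _).injective x).trans D.ox
    · rw [← hc']; exact D.comm.map (MulAut.conj _).toMonoidHom
  obtain ⟨x3, w3, hx3, hw3, hinv3⟩ := exists_real_three (F := F) hchar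
  set a := e.symm x3 with ha
  have hao : orderOf a = 3 := (MulEquiv.orderOf_eq e.symm x3).trans hx3
  have hcard : Nat.card (centralizer ({z} : Set T)) = 4 * q := D.card_cent rig hI
  by_cases hq3 : q = 3
  swap
  · exfalso
    have hC := rig.centralizer_three hao ((MulEquiv.orderOf_eq e.symm w3).trans hw3)
      (by rw [ha, ← map_inv, ← map_mul, ← map_mul, hinv3, map_inv])
      fun t ht y hy hy3 => by
        obtain ⟨x', D'⟩ := hall t ht
        exact hq3 (D'.eq_of_prime_dvd rig hI Nat.prime_three (by norm_num) hy3 hy).1.symm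
    have hdvd := card_subgroup_dvd_card (centralizer ({z} : Set T))
    rw [hcard] at hdvd
    have hlt : centralizer ({z} : Set T) ≠ ⊤ := fun h => by
      have hz1 : z ∈ center T := mem_center_iff.2 fun g =>
        mem_centralizer_singleton_iff.1 (h ▸ mem_top g)
      have hZ : center T = ⊤ := by
        refine (Normal.eq_bot_or_eq_top inferInstance).resolve_left fun e => invol_ne_one D.oz ?_
        exact mem_bot.1 (e ▸ hz1)
      obtain ⟨a', b', hab⟩ := hnc
      exact hab (mem_center_iff.1 (hZ ▸ mem_top b') a')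
    have hfac := card_dvd_factorial _ hlt
    have hidx := (centralizer ({z} : Set T)).card_mul_index
    rw [hcard] at hidx
    have h5 : ∀ n k : ℕ, Nat.card T = n → 4 * k = n → q ∣ k := fun n k h1 h2 => by
      rw [h1, ← h2] at hdvd
      exact Nat.dvd_of_mul_dvd_mul_left (by norm_num) hdvd
    rcases card_or_iso_of_selfcentral hnc hao hC with h | ⟨⟨i⟩⟩
    · have hq' : q ∣ 3 * 5 := h5 60 15 h rfl
      rcases (Nat.Prime.dvd_mul D.hq).1 hq' with h' | h'
      · exact hq3 ((Nat.prime_dvd_prime_iff_eq D.hq Nat.prime_three).1 h')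
      · rw [(Nat.prime_dvd_prime_iff_eq D.hq (by norm_num)).1 h', h] at hidx
        rw [h, show (centralizer ({z} : Set T)).index = 3 by omega] at hfac
        norm_num [Nat.factorial] at hfac
    · have h : Nat.card T = 168 := by
        rw [Nat.card_congr i.toEquiv]
        haveI : Fact (Nat.Prime 7) := ⟨by norm_num⟩
        have := CfsgLib.Classical.card_PSL_two_mul (F := ZMod 7)
        rw [Nat.card_zmod, show Nat.gcd 2 (7 - 1) = 2 from rfl] at this
        simp only [Nat.reducePow, Nat.reduceSub, Nat.reduceMul] at this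
        omega
      have hq' : q ∣ 2 * 3 * 7 := h5 168 42 h rfl
      rcases (Nat.Prime.dvd_mul D.hq).1 hq' with h' | h'
      · rcases (Nat.Prime.dvd_mul D.hq).1 h' with h'' | h''
        · exact D.odd ((Nat.prime_dvd_prime_iff_eq D.hq Nat.prime_two).1 h'')
        · exact hq3 ((Nat.prime_dvd_prime_iff_eq D.hq Nat.prime_three).1 h'')
      · rw [(Nat.prime_dvd_prime_iff_eq D.hq (by norm_num)).1 h', h] at hidx
        rw [h, show (centralizer ({z} : Set T)).index = 6 by omega] at hfac
        norm_num [Nat.factorial] at hfac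
  subst hq3
  obtain ⟨t, ht, hb1, hb3⟩ := exists_big_centralizer (F := F) hodd
  obtain ⟨y, Dt⟩ := hall (e.symm t) ((MulEquiv.orderOf_eq e.symm t).trans ht)
  have hct : Nat.card (centralizer ({t} : Set (Matrix.ProjectiveSpecialLinearGroup (Fin 2) F))) = 12 := by
    rw [show (12 : ℕ) = 4 * 3 from rfl, ← Dt.card_cent rig hI]
    refine Nat.card_congr (Equiv.subtypeEquiv e.symm.toEquiv fun g => ?_)
    rw [mem_centralizer_singleton_iff, mem_centralizer_singleton_iff]
    show g * t = t * g ↔ e.symm g * e.symm t = e.symm t * e.symm g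
    rw [← map_mul, ← map_mul, e.symm.injective.eq_iff]
  rw [hct] at hb1 hb3
  have hFo : Fintype.card F % 2 = 1 := Nat.odd_iff.1 hodd
  have hF : Fintype.card F = 5 ∨ Fintype.card F = 11 ∨ Fintype.card F = 13 := by
    rcases (show Fintype.card F % 4 = 1 ∨ Fintype.card F % 4 = 3 by omega) with h | h
    · have h1 := hb1 h
      have h2 := Nat.le_of_dvd (by norm_num) h1
      have hb : Fintype.card F ≤ 13 := by omega
      interval_cases Fintype.card F <;> simp_all
    · have h1 := hb3 h
      have h2 := Nat.le_of_dvd (by norm_num) h1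
      have hb : Fintype.card F ≤ 11 := by omega
      interval_cases Fintype.card F <;> simp_all
  have key : ∀ p : ℕ, p.Prime → Fintype.card F = p →
      Nonempty (T ≃* Matrix.ProjectiveSpecialLinearGroup (Fin 2) (ZMod p)) := fun p hp hFp => by
    obtain ⟨f⟩ := CfsgLib.PSL2.nonempty_psl_congr (n := Fin 2) (ZMod.ringEquivOfPrime F hp hFp).symm
    exact ⟨e.trans f⟩
  rcases hF with h | h | h
  · exfalso
    have hT : Nat.card T = 60 := by
      rw [Nat.card_congr e.toEquiv]
      have := CfsgLib.Classical.card_PSL_two_mul (F := F)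
      rw [Nat.card_eq_fintype_card (α := F), h] at this
      norm_num at this
      omega
    haveI := Fact.mk Nat.prime_three
    obtain ⟨P, hP⟩ := (IsPGroup.of_card (p := 3) (n := 1) (G := zpowers x)
      (by rw [Nat.card_zpowers, D.ox, pow_one])).exists_le_sylow
    have hPc : Nat.card (P : Subgroup T) = 3 := by
      rw [P.card_eq_multiplicity, hT]
      have : (60 : ℕ).factorization 3 = 1 := by
        rw [show (60 : ℕ) = 3 ^ 1 * 20 by norm_num, Nat.factorization_mul (by norm_num) (by norm_num),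
          Finsupp.add_apply, Nat.Prime.factorization_pow (by norm_num), Finsupp.single_eq_same,
          Nat.factorization_eq_zero_of_not_dvd (by norm_num)]
      rw [this]; rfl
    have hPx : zpowers x = (P : Subgroup T) :=
      eq_of_le_of_card_ge hP (by rw [hPc, Nat.card_zpowers, D.ox])
    have h1 := Sylow.card_eq_index_normalizer P
    rw [show ((P : Set T)) = (zpowers x : Set T) from by rw [hPx]; rfl, D.norm_eq rig] at h1
    have h2 := (centralizer ({z} : Set T)).card_mul_index
    rw [hcard, hT] at h2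
    have h3 := card_sylow_modEq_one 3 T
    rw [Nat.ModEq, h1] at h3
    omega
  · exact Or.inl (key 11 (by norm_num) h)
  · exact Or.inr (key 13 (by norm_num) h)

end Good

section Bad

theorem real_psl3 {F : Type} [Field F] [Fintype F] (hF : Fintype.card F = 4) :
    ∃ x w : Matrix.ProjectiveSpecialLinearGroup (Fin 3) F,
      orderOf x = 3 ∧ orderOf w = 2 ∧ w * x * w⁻¹ = x⁻¹ := by
  haveI := Fact.mk Nat.prime_three
  haveI := Fact.mk Nat.prime_two
  haveI : CharP F 2 := ringChar.of_eq (FiniteField.even_card_iff_char_two.2 (by omega))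
  let X : Matrix.SpecialLinearGroup (Fin 3) F :=
    ⟨!![0, 1, 0; 0, 0, 1; 1, 0, 0], by simp [Matrix.det_fin_three]⟩
  let W : Matrix.SpecialLinearGroup (Fin 3) F :=
    ⟨!![0, 1, 0; 1, 0, 0; 0, 0, 1], by simp [Matrix.det_fin_three, CharTwo.neg_eq]⟩
  let π := QuotientGroup.mk' (Subgroup.center (Matrix.SpecialLinearGroup (Fin 3) F))
  have hne : ∀ g : Matrix.SpecialLinearGroup (Fin 3) F,
      (g : Matrix (Fin 3) (Fin 3) F) 0 1 ≠ 0 → π g ≠ 1 := fun g hg h => by
    rw [QuotientGroup.mk'_apply, QuotientGroup.eq_one_iff,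
      Matrix.SpecialLinearGroup.mem_center_iff] at h
    obtain ⟨r, -, hr⟩ := h
    rw [← hr] at hg
    exact hg (by simp)
  have hX3 : X ^ 3 = 1 := Subtype.ext (by
    rw [Matrix.SpecialLinearGroup.coe_pow, Matrix.SpecialLinearGroup.coe_one]
    ext i j
    fin_cases i <;> fin_cases j <;> simp [X, pow_succ, Matrix.mul_apply, Fin.sum_univ_three])
  have hW2 : W * W = 1 := Subtype.ext (by
    rw [Matrix.SpecialLinearGroup.coe_mul, Matrix.SpecialLinearGroup.coe_one]
    ext i j
    fin_cases i <;> fin_cases j <;> simp [W, Matrix.mul_apply, Fin.sum_univ_three])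
  have hWX : X * (W * X) = W := Subtype.ext (by
    rw [Matrix.SpecialLinearGroup.coe_mul, Matrix.SpecialLinearGroup.coe_mul]
    ext i j
    fin_cases i <;> fin_cases j <;> simp [X, W, Matrix.mul_apply, Fin.sum_univ_three])
  refine ⟨π X, π W, orderOf_eq_prime (by rw [← map_pow, hX3, map_one]) (hne X (by simp [X])),
    orderOf_eq_prime (by rw [sq, ← map_mul, hW2, map_one]) (hne W (by simp [W])), ?_⟩
  rw [mul_inv_eq_iff_eq_mul, ← map_inv, ← map_mul, ← map_mul]
  congr 1
  rw [eq_inv_mul_iff_mul_eq, hWX]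

theorem bad_cases {T : Type u} [Group T] [Finite T] [IsSimpleGroup T] (hnc : ∃ a b : T, a * b ≠ b * a)
    (rig : Rigid T) (hb : ∀ z : T, orderOf z = 2 → ¬ Good z) :
    Nonempty (T ≃* Matrix.ProjectiveSpecialLinearGroup (Fin 2) (ZMod 7)) := by
  have hcit : CIT.CIT T := fun t ht => not_good_small ht (hb t ht)
  have hno : ∀ t : T, orderOf t = 2 → ∀ y : T, Commute y t → orderOf y ≠ 3 := fun t ht y hy h3 =>
    hb t ht ⟨y, 3, ht, Nat.prime_three, by norm_num, h3, hy.symm⟩
  have h60 := card_ge_sixty hnc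
  have key : ∀ {G' : Type} [Group G'] (_ : T ≃* G') {x w : G'}, orderOf x = 3 → orderOf w = 2 →
      w * x * w⁻¹ = x⁻¹ → Nonempty (T ≃* Matrix.ProjectiveSpecialLinearGroup (Fin 2) (ZMod 7)) := by
    intro G' _ e x w hx hw hinv
    have hC := rig.centralizer_three ((MulEquiv.orderOf_eq e.symm x).trans hx)
      ((MulEquiv.orderOf_eq e.symm w).trans hw)
      (by rw [← map_inv, ← map_mul, ← map_mul, hinv, map_inv]) hno
    refine (card_or_iso_of_selfcentral hnc ((MulEquiv.orderOf_eq e.symm x).trans hx) hC).resolve_left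
      fun h => false_of_cit_sixty hnc rig hcit h
  rcases CIT.known_of_cit hnc hcit with ⟨⟨S, D, q, hd⟩, -⟩ | ⟨⟨F, iF, iFt, hF, ⟨e⟩⟩, -⟩ |
    ⟨F, iF, iFt, hF, ⟨e⟩⟩
  · exfalso
    have h4 := hd.four_le
    obtain ⟨⟨t, htS, ht⟩⟩ : Nonempty {t : T // t ∈ S ∧ orderOf t = 2} :=
      (Nat.card_pos_iff.1 (by rw [hd.card_invol]; omega)).1
    have hC := hd.centralizer_eq t htS ht
    have hN := rig.normalizer_centralizer ht (small_of_isPGroup Nat.prime_two (hcit t ht))
    rw [hC] at hN
    have h1 := hd.card_norm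
    rw [hN] at h1
    have hS : 0 < Nat.card S := Nat.card_pos
    have : Nat.card S * 1 < Nat.card S * (q - 1) := Nat.mul_lt_mul_of_pos_left (by omega) hS
    omega
  · have hF3 : 3 < Fintype.card F := by
      by_contra hle
      have hc := CfsgLib.Classical.card_PSL_two_mul (F := F)
      rw [← Nat.card_congr e.toEquiv, Nat.card_eq_fintype_card (α := F)] at hc
      have h1 : 2 ≤ Fintype.card F := Fintype.one_lt_card
      rcases (show Fintype.card F = 2 ∨ Fintype.card F = 3 by omega) with h | h <;> rw [h] at hc <;>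
        norm_num at hc <;> omega
    have h3 : (3 : F) ≠ 0 := fun h => not_rigid_char_three h hF3 (rig.of_equiv e)
    obtain ⟨x, w, hx, hw, hinv⟩ := exists_real_three (F := F) h3
    exact key e hx hw hinv
  · exfalso
    obtain ⟨x, w, hx, hw, hinv⟩ := real_psl3 hF
    obtain ⟨i⟩ := key e hx hw hinv
    haveI : Fact (Nat.Prime 7) := ⟨by norm_num⟩
    have h1 := CfsgLib.Classical.card_PSL_two_mul (F := ZMod 7)
    rw [← Nat.card_congr i.toEquiv, Nat.card_congr e.toEquiv, CfsgLib.Recog.FiveOrbits.card_psl_three hF,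
      Nat.card_zmod, show Nat.gcd 2 (7 - 1) = 2 from rfl] at h1
    norm_num at h1

end Bad

/-- The rigid simple groups. -/
theorem rigid_cases {T : Type u} [Group T] [Finite T] [IsSimpleGroup T] (hnc : ∃ a b : T, a * b ≠ b * a)
    (rig : Rigid T) :
    Nonempty (T ≃* Matrix.ProjectiveSpecialLinearGroup (Fin 2) (ZMod 7)) ∨
    Nonempty (T ≃* Matrix.ProjectiveSpecialLinearGroup (Fin 2) (ZMod 11)) ∨
      Nonempty (T ≃* Matrix.ProjectiveSpecialLinearGroup (Fin 2) (ZMod 13)) := by
  by_cases h : ∃ z : T, Good z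
  · obtain ⟨z, hz⟩ := h
    exact Or.inr (good_cases hnc rig hz)
  · push Not at h
    exact Or.inl (bad_cases hnc rig fun z _ => h z)

end CfsgLib.Recog.MaxNorm
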