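import Cfsg.Agent.Lib.Recog.MaxNorm.Dihedral

/-!
Consequences of the dihedral structure: the order of the centraliser and the classification.
-/

set_option autoImplicit false
set_option linter.unusedSectionVars false
set_option linter.style.haveILetI false

namespace CfsgLib.Recog.MaxNorm

open Subgroup CfsgLib.Involutions

variable {T : Type*} [Group T] [Finite T]
variable (rig : Rigid T) (hI : NoIso T)

namespace GD

section

variable {z x : T} {q : ℕ} (D : GD z x q) {u x' : T} (D' : GD u x' q)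
  (hc : Commute u z) (hun : u ∉ cen z) (hzn : z ∉ cen u)
include rig hI D D' hc hun hzn

theorem decomp {m : T} (hm : Commute m z) :
    ∃ a ∈ zpowers x, ∃ v : T, (v = 1 ∨ v = z ∨ v = u ∨ v = z * u) ∧ m = a * v := by
  have huu := invol_mul_self D'.oz
  obtain ⟨i, hi⟩ := D.conj_invol_mem rig huu hc hun hm
  have hi' : x ^ i = m * u * m⁻¹ * u := hi
  obtain ⟨k, hk⟩ := D.hq.odd_of_ne_two D.odd
  set j : ℤ := i * (k + 1) with hj
  have h2 : x ^ (2 * j) = x ^ i := by
    refine zpow_eq_zpow_iff_modEq.2 ?_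
    rw [D.ox]
    refine Int.modEq_iff_dvd.2 ⟨-i, ?_⟩
    rw [hj, hk]; push_cast; ring
  have hinv : u * x ^ (-j) * u⁻¹ = x ^ j := by
    rw [← conj_zpow, (D.inverts rig huu hc hun).1, inv_zpow, ← zpow_neg, neg_neg]
  have hux : x ^ (-j) * m * u = u * (x ^ (-j) * m) := by
    have e1 : m * u = x ^ i * u * m := by
      rw [hi', mul_assoc (m * u * m⁻¹), huu, mul_one, inv_mul_cancel_right]
    have e2 : u * x ^ (-j) = x ^ j * u := mul_inv_eq_iff_eq_mul.1 hinv
    rw [mul_assoc, e1, ← mul_assoc u, e2, ← h2, ← mul_assoc, ← mul_assoc, ← zpow_add,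
      show -j + 2 * j = j by ring]
  exact ⟨x ^ j, zpow_mem (mem_zpowers x) j, x ^ (-j) * m,
    four_only rig hI D D' hc hun hzn ((D.comm.symm.zpow_left _).mul_left hm) hux,
    by rw [zpow_neg, mul_inv_cancel_left]⟩

theorem dihedral {m : T} (hm : Commute m z) : Commute m x ∨ m * m = 1 := by
  have huu := invol_mul_self D'.oz
  obtain ⟨a, ⟨j, hj⟩, v, hv, rfl⟩ := decomp rig hI D D' hc hun hzn hm
  have hj' : x ^ j = a := hj
  subst hj'
  have hax : Commute (x ^ j) x := (Commute.refl x).zpow_left j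
  have hinv : u * x ^ j * u⁻¹ = (x ^ j)⁻¹ := by
    rw [← conj_zpow, (D.inverts rig huu hc hun).1, inv_zpow]
  have hau : x ^ j * u * (x ^ j * u) = 1 := by
    calc x ^ j * u * (x ^ j * u) = x ^ j * (u * x ^ j * u⁻¹) * (u * u) := by group
      _ = 1 := by rw [hinv, mul_inv_cancel, one_mul, huu]
  rcases hv with rfl | rfl | rfl | rfl
  · rw [mul_one]; exact Or.inl hax
  · exact Or.inl (hax.mul_left D.comm)
  · exact Or.inr hau
  · refine Or.inr ?_
    have h1 : Commute z (x ^ j * u) := (D.comm.zpow_right j).mul_right hc.symm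
    rw [show x ^ j * (z * u) = z * (x ^ j * u) by
      rw [← mul_assoc, (D.comm.symm.zpow_left j).eq, mul_assoc], h1.symm.mul_mul_mul_comm,
      invol_mul_self D.oz, hau, one_mul]

theorem card_inf : Nat.card ↥(centralizer ({z} : Set T) ⊓ centralizer {u}) = 4 := by
  classical
  have hz1 := invol_ne_one D.oz
  have hu1 := invol_ne_one D'.oz
  have hne : z ≠ u := fun e => hun (e ▸ self_mem_cen D.oz)
  have h1 : z * u ≠ 1 := fun e => hne (by rw [mul_eq_one_iff_eq_inv.1 e, invol_inv D'.oz])
  have h2 : z * u ≠ z := fun e => hu1 (mul_eq_left.1 e)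
  have h3 : z * u ≠ u := fun e => hz1 (mul_eq_right.1 e)
  have hmem : ∀ t : T, t ∈ centralizer ({z} : Set T) ⊓ centralizer {u} ↔
      t ∈ ({1, z, u, z * u} : Finset T) := by
    intro t
    rw [mem_inf, mem_centralizer_singleton_iff, mem_centralizer_singleton_iff]
    simp only [Finset.mem_insert, Finset.mem_singleton]
    constructor
    · rintro ⟨ha, hb⟩
      exact four_only rig hI D D' hc hun hzn ha hb
    · rintro (rfl | rfl | rfl | rfl)
      · exact ⟨(Commute.one_left _).eq, (Commute.one_left _).eq⟩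
      · exact ⟨rfl, hc.eq.symm⟩
      · exact ⟨hc.eq, rfl⟩
      · exact ⟨((Commute.refl z).mul_left hc).eq, (hc.symm.mul_left (Commute.refl u)).eq⟩
  calc Nat.card ↥(centralizer ({z} : Set T) ⊓ centralizer {u})
      = Nat.card {t : T // t ∈ ({1, z, u, z * u} : Finset T)} :=
        Nat.card_congr (Equiv.subtypeEquivRight hmem)
    _ = 4 := by
        rw [Nat.card_eq_fintype_card, Fintype.card_coe]
        simp [Ne.symm hz1, Ne.symm hu1, Ne.symm h1, hne, Ne.symm h2, Ne.symm h3]

theorem card_cent_aux : Nat.card (centralizer ({z} : Set T)) = 4 * q := by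
  set R := centralizer ({z} : Set T) ⊓ centralizer {u} with hR
  have hdis : Disjoint (zpowers x) R := by
    refine disjoint_iff_inf_le.2 fun a ha => mem_bot.2 ?_
    have h1 : orderOf a ∣ q := D.ox ▸ orderOf_dvd_of_mem_zpowers ha.1
    have h2 : orderOf a ∣ 4 := by
      have := orderOf_dvd_natCard R ha.2
      rwa [hR, card_inf rig hI D D' hc hun hzn] at this
    refine orderOf_eq_one_iff.1 (Nat.eq_one_of_dvd_coprimes ?_ h1 h2)
    exact (Nat.Coprime.pow_right 2 ((Nat.coprime_primes D.hq Nat.prime_two).2 D.odd) :)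
  have hle : ∀ p : zpowers x × R, (p.1 : T) * p.2 ∈ centralizer ({z} : Set T) := fun p => by
    refine mul_mem ?_ p.2.2.1
    obtain ⟨i, hi⟩ := p.1.2
    have hi' : x ^ i = p.1 := hi
    rw [← hi', mem_centralizer_singleton_iff]
    exact (D.comm.symm.zpow_left i).eq
  have e := Nat.card_congr (Equiv.ofBijective
    (fun p : zpowers x × R => (⟨(p.1 : T) * p.2, hle p⟩ : centralizer ({z} : Set T)))
    ⟨fun a b hab => mul_injective_of_disjoint hdis (congrArg Subtype.val hab), fun m => by
      obtain ⟨a, ha, v, hv, hm⟩ := decomp rig hI D D' hc hun hzn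
        (mem_centralizer_singleton_iff.1 m.2)
      refine ⟨(⟨a, ha⟩, ⟨v, ?_⟩), Subtype.ext hm.symm⟩
      rw [hR, mem_inf, mem_centralizer_singleton_iff, mem_centralizer_singleton_iff]
      rcases hv with rfl | rfl | rfl | rfl
      · exact ⟨(Commute.one_left _).eq, (Commute.one_left _).eq⟩
      · exact ⟨rfl, hc.eq.symm⟩
      · exact ⟨hc.eq, rfl⟩
      · exact ⟨((Commute.refl z).mul_left hc).eq, (hc.symm.mul_left (Commute.refl u)).eq⟩⟩)
  rw [← e, Nat.card_prod, Nat.card_zpowers, D.ox, hR, card_inf rig hI D D' hc hun hzn, mul_comm]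

end

section

variable {z x : T} {q : ℕ} (D : GD z x q)
include rig hI D

theorem card_cent : Nat.card (centralizer ({z} : Set T)) = 4 * q := by
  obtain ⟨u, x', D', -, hc, hun, hzn⟩ := D.exists_pair rig hI
  exact card_cent_aux rig hI D D' hc hun hzn

theorem eq_of_prime_dvd {y : T} {r : ℕ} (hr : r.Prime) (hr2 : r ≠ 2) (hy : orderOf y = r)
    (hyz : Commute y z) : r = q ∧ zpowers y = zpowers x := by
  obtain ⟨u, x', D', huu, hc, hun, -⟩ := D.exists_pair rig hI
  have h := D.zpowers_eq rig huu hc hun hr hr2 hy hyz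
  have h' := congrArg (fun H : Subgroup T => Nat.card H) h
  simp only [Nat.card_zpowers, hy, D.ox] at h'
  exact ⟨h', h⟩

theorem odd_orderOf_mem {y : T} (hyz : Commute y z) (hodd : Odd (orderOf y)) : y ∈ zpowers x := by
  obtain ⟨u, x', D', huu, hc, hun, -⟩ := D.exists_pair rig hI
  exact D.odd_mem rig huu hc hun hyz hodd

theorem classify (hns : ¬ Group.IsSolvable T) :
    ∃ (N : Subgroup T) (_ : N.Normal), (Odd (Nat.card N) ∨ ∃ m : ℕ, Odd m ∧ Nat.card N = 2 * m) ∧
      CfsgLib.DGroup.Out (T ⧸ N) := by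
  obtain ⟨u, x', D', huu, hc, hun, hzn⟩ := D.exists_pair rig hI
  refine CfsgLib.DGroup.classify (centralizer {z}) (centralizer {z} ⊓ centralizer {x}) ?_ ?_ ?_ ?_ hns
  · refine lt_of_le_of_ne inf_le_left fun e => ?_
    have hu : u ∈ centralizer ({z} : Set T) ⊓ centralizer {x} := by
      rw [e]; exact mem_centralizer_singleton_iff.2 hc.eq
    exact hun ⟨huu, hc, fun m hm =>
      D.central_of_comm_x rig huu (mem_centralizer_singleton_iff.1 hu.2) hm⟩
  · intro m hm hnm
    rw [mem_centralizer_singleton_iff] at hm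
    rw [sq]
    exact (dihedral rig hI D D' hc hun hzn hm).resolve_left fun h =>
      hnm ⟨mem_centralizer_singleton_iff.2 hm, mem_centralizer_singleton_iff.2 h.eq⟩
  · rw [card_cent rig hI D]; exact dvd_mul_right 4 q
  · intro j hj hjo hcen
    have h : j ∈ cen z := ⟨invol_mul_self hjo, mem_centralizer_singleton_iff.1 hj,
      fun m hm => hcen m (mem_centralizer_singleton_iff.2 hm.eq)⟩
    rw [(D.cen_eq rig hI h).resolve_left (invol_ne_one hjo)]

end

end GD

end CfsgLib.Recog.MaxNorm
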