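import Cfsg.Agent.Lib.KnownA.PSL2Multiplier
import Cfsg.Agent.Lib.Classical.PSLSimple

/-!
Perfect central extensions of `PSL₂(13)`.
-/

set_option autoImplicit false
set_option linter.style.haveILetI false

namespace CfsgLib.Recog.MaxNorm

open Subgroup CfsgLib.Schur

local notation "SL13" => Matrix.SpecialLinearGroup (Fin 2) (ZMod 13)
local notation "L13" => Matrix.ProjectiveSpecialLinearGroup (Fin 2) (ZMod 13)

/-- The field with thirteen elements. -/
local instance fact_thirteen : Fact (Nat.Prime 13) := ⟨by norm_num⟩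

theorem card_SL13 : Nat.card SL13 = 2184 := by
  rw [CfsgLib.Classical.card_SL_two, Nat.card_zmod]; norm_num

theorem card_L13 : Nat.card L13 = 1092 := by
  have := CfsgLib.Classical.card_PSL_two_mul (F := ZMod 13)
  rw [Nat.card_zmod, show Nat.gcd 2 (13 - 1) = 2 from rfl] at this
  simp only [Nat.reducePow, Nat.reduceSub, Nat.reduceMul] at this
  omega

theorem card_center_SL13 : Nat.card (center SL13) = 2 := by
  have h : Nat.card SL13 = Nat.card L13 * Nat.card (center SL13) :=
    Subgroup.card_eq_card_quotient_mul_card_subgroup (center SL13)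
  rw [card_SL13, card_L13] at h
  omega

theorem onto_commutator {E Y : Type*} [Group E] [Group Y] (φ : E →* Y) (hφ : Function.Surjective φ)
    (hY : commutator Y = ⊤) : Function.Surjective (φ.comp (commutator E).subtype) := by
  intro y
  have h : (commutator E).map φ = ⊤ := by
    rw [commutator_def, map_commutator, map_top_of_surjective φ hφ, ← commutator_def, hY]
  obtain ⟨c, hc', rfl⟩ := (h ▸ mem_top y : y ∈ (commutator E).map φ)
  exact ⟨⟨c, hc'⟩, rfl⟩

/-- A perfect central extension of `PSL₂(13)` is `PSL₂(13)` or `SL₂(13)`. -/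
theorem perfect_cover_thirteen {X : Type*} [Group X] [Finite X] (ξ : X →* L13)
    (hsurj : Function.Surjective ξ) (hc : ξ.ker ≤ center X) (hperf : commutator X = ⊤) :
    Nonempty (X ≃* L13) ∨ Nonempty (X ≃* SL13) := by
  let σ : SL13 →* L13 := QuotientGroup.mk' (center SL13)
  have hσ : Function.Surjective σ := QuotientGroup.mk'_surjective _
  have hσk : σ.ker = center SL13 := QuotientGroup.ker_mk' _
  have hperfSL : commutator SL13 = ⊤ :=
    CfsgLib.Classical.SL_fin_commutator_eq_top 2 le_rfl fun _ => by rw [Nat.card_zmod]; norm_num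
  have hsσ : Cfsg.IsStemExtension σ := ⟨hσ, hσk.le, hperfSL ▸ le_top⟩
  have hsξ : Cfsg.IsStemExtension ξ := ⟨hsurj, hc, hperf ▸ le_top⟩
  obtain ⟨m⟩ := mult_equiv_ker_of_trivial σ hsσ
    (CfsgLib.KnownA.SLTwo.multiplier_trivial (F := ZMod 13) (by rw [ZMod.card]; norm_num)
      (by rw [ZMod.card]; norm_num))
  have hm2 : Nat.card (Mult L13) = 2 := by
    rw [Nat.card_congr m.toEquiv, hσk, card_center_SL13]
  obtain ⟨g, hg⟩ := exists_lift σ hσ hσk.le (MonoidHom.id L13)
  rw [MonoidHom.id_comp] at hg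
  obtain ⟨f, hf⟩ := exists_lift ξ hsurj hc (MonoidHom.id L13)
  rw [MonoidHom.id_comp] at hf
  have hgs := surjective_of_stem σ hsσ g hg
  have hfs := surjective_of_stem ξ hsξ f hf
  have hginj : Function.Injective (g.comp (commutator (Cov L13)).subtype) := by
    refine (injective_iff_map_eq_one _).2 fun c hc1 => Subtype.ext ?_
    refine injOn_multiplier_of_cover σ hsσ (Nat.card_congr m.toEquiv) g hg c ⟨?_, c.2⟩ hc1
    show proj L13 (c : Cov L13) = 1
    rw [← hg]
    exact (congrArg σ hc1).trans (map_one σ)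
  let eC := MulEquiv.ofBijective _ ⟨hginj, onto_commutator g hgs hperfSL⟩
  by_cases hfinj : Function.Injective (f.comp (commutator (Cov L13)).subtype)
  · exact Or.inr ⟨(MulEquiv.ofBijective _ ⟨hfinj, onto_commutator f hfs hperf⟩).symm.trans eC⟩
  left
  rw [injective_iff_map_eq_one] at hfinj
  push Not at hfinj
  obtain ⟨c, hc1, hcne⟩ := hfinj
  have hcm : (c : Cov L13) ∈ multiplier L13 := by
    refine ⟨?_, c.2⟩
    show proj L13 (c : Cov L13) = 1
    rw [← hf]
    exact (congrArg ξ hc1).trans (map_one ξ)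
  have hgen : ∀ d ∈ multiplier L13, d = 1 ∨ d = (c : Cov L13) := by
    intro d hd
    obtain ⟨a, b, hab, hu⟩ := Nat.card_eq_two_iff.1 hm2
    have hmem : ∀ t : Mult L13, t = a ∨ t = b := fun t => by
      have : t ∈ ({a, b} : Set (Mult L13)) := hu ▸ Set.mem_univ t
      simpa using this
    by_contra hd'
    push Not at hd'
    rcases hmem 1 with h1 | h1 <;> rcases hmem ⟨c, hcm⟩ with h2 | h2 <;> rcases hmem ⟨d, hd⟩ with h3 | h3 <;>
      first
        | exact hd'.1 (congrArg Subtype.val (h3.trans h1.symm))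
        | exact hd'.2 (congrArg Subtype.val (h3.trans h2.symm))
        | exact hcne (Subtype.ext (congrArg (fun t : Mult L13 => (t : Cov L13)) (h2.trans h1.symm)))
  have hk : ξ.ker = ⊥ := by
    have h := map_multiplier ξ hc f hf
    rw [inf_eq_left.2 hsξ.2.2] at h
    rw [← h, Subgroup.map_eq_bot_iff]
    intro d hd
    rcases hgen d hd with rfl | rfl
    · exact one_mem _
    · exact hc1
  exact ⟨MulEquiv.ofBijective ξ ⟨(MonoidHom.ker_eq_bot_iff ξ).1 hk, hsurj⟩⟩

end CfsgLib.Recog.MaxNorm
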