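import Cfsg.Agent.Lib.Involutions.Basic

/-!
Groups in which small subgroups have maximal normalisers: the basic notions.
-/

set_option autoImplicit false

namespace CfsgLib.Recog.MaxNorm

open Subgroup

/-- At most two prime divisors. -/
def Small (n : ℕ) : Prop :=
  ∃ p q : ℕ, p.Prime ∧ q.Prime ∧ ∀ r : ℕ, r.Prime → r ∣ n → r = p ∨ r = q

theorem small_of_dvd {n m : ℕ} (h : Small n) (hd : m ∣ n) : Small m := by
  obtain ⟨p, q, hp, hq, hr⟩ := h
  exact ⟨p, q, hp, hq, fun r hr' hd' => hr r hr' (hd'.trans hd)⟩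

theorem small_pow_mul_pow {p q : ℕ} (hp : p.Prime) (hq : q.Prime) (a b : ℕ) :
    Small (p ^ a * q ^ b) := by
  refine ⟨p, q, hp, hq, fun r hr hd => ?_⟩
  rcases (Nat.Prime.dvd_mul hr).1 hd with h | h
  · exact Or.inl ((Nat.prime_dvd_prime_iff_eq hr hp).1 (hr.dvd_of_dvd_pow h))
  · exact Or.inr ((Nat.prime_dvd_prime_iff_eq hr hq).1 (hr.dvd_of_dvd_pow h))

theorem small_prime {p : ℕ} (hp : p.Prime) : Small p := by
  simpa using small_pow_mul_pow hp hp 1 0

theorem small_of_isPGroup {G : Type*} [Group G] [Finite G] {p : ℕ} (hp : p.Prime)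
    {H : Subgroup G} (h : IsPGroup p H) : Small (Nat.card H) := by
  haveI := Fact.mk hp
  obtain ⟨n, hn⟩ := IsPGroup.iff_card.1 h
  simpa [hn] using small_pow_mul_pow hp hp n 0

section Norm

variable {G : Type*} [Group G] [Finite G]

theorem mem_normalizer_of_forall {H : Subgroup G} {g : G} (h : ∀ v ∈ H, g * v * g⁻¹ ∈ H) :
    g ∈ normalizer (H : Set G) := by
  refine mem_normalizer_iff_map_conj_eq.2 (eq_of_le_of_card_ge ?_ ?_)
  · rintro _ ⟨v, hv, rfl⟩
    exact h v hv
  · exact (card_map_of_injective (MulAut.conj g).injective).ge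

theorem conj_mem_of_mem_normalizer {H : Subgroup G} {g : G} (h : g ∈ normalizer (H : Set G)) {v : G}
    (hv : v ∈ H) : g * v * g⁻¹ ∈ H :=
  (mem_normalizer_iff.1 h v).1 hv

theorem mem_normalizer_zpowers {x g : G} :
    g ∈ normalizer (zpowers x : Set G) ↔ g * x * g⁻¹ ∈ zpowers x := by
  refine ⟨fun h => conj_mem_of_mem_normalizer h (mem_zpowers x), fun h => mem_normalizer_of_forall ?_⟩
  rintro v ⟨k, rfl⟩
  show g * x ^ k * g⁻¹ ∈ zpowers x
  rw [← conj_zpow]
  exact zpow_mem h k

theorem normalizer_zpowers_invol {z : G} (hz : orderOf z = 2) :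
    normalizer (zpowers z : Set G) = centralizer {z} := by
  ext g
  rw [mem_normalizer_zpowers, mem_centralizer_singleton_iff]
  constructor
  · rintro ⟨k, hk⟩
    have hk' : z ^ k = g * z * g⁻¹ := hk
    have h1 : z ^ k = 1 ∨ z ^ k = z := by
      rw [← zpow_mod_orderOf, hz]
      rcases Int.emod_two_eq_zero_or_one k with e | e
      · left; push_cast; rw [e, zpow_zero]
      · right; push_cast; rw [e, zpow_one]
    rcases h1 with e | e <;> rw [e] at hk'
    · have : z = 1 := by simpa using hk'.symm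
      rw [this, orderOf_one] at hz
      exact absurd hz (by decide)
    · exact mul_inv_eq_iff_eq_mul.1 hk'.symm
  · intro h
    rw [h, mul_inv_cancel_right]
    exact mem_zpowers z

end Norm

/-- If every automorphism fixing `H` fixes `K` then `H` and `K` have the same normaliser. -/
def Rigid (T : Type*) [Group T] : Prop :=
  ∀ H K : Subgroup T, Small (Nat.card H) → Small (Nat.card K) → H ≠ ⊥ → K ≠ ⊥ →
    (∀ α : MulAut T, (∀ v ∈ H, α v ∈ H) → ∀ v ∈ K, α v ∈ K) →
      normalizer (K : Set T) ≤ normalizer (H : Set T)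

/-- No involution is isolated. -/
def NoIso (T : Type*) [Group T] : Prop :=
  ∀ t : T, orderOf t = 2 → ∃ g : T, g * t * g⁻¹ ≠ t ∧ Commute t (g * t * g⁻¹)

namespace Rigid

variable {T : Type*} [Group T] [Finite T]

theorem norm_eq (h : Rigid T) {H K : Subgroup T} (hH : Small (Nat.card H)) (hK : Small (Nat.card K))
    (h1 : H ≠ ⊥) (h2 : K ≠ ⊥)
    (hs : ∀ α : MulAut T, (∀ v ∈ H, α v ∈ H) → ∀ v ∈ K, α v ∈ K) :
    normalizer (H : Set T) = normalizer (K : Set T) := by
  refine le_antisymm (fun g hg => mem_normalizer_of_forall fun v hv => ?_) (h H K hH hK h1 h2 hs)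
  have := hs (MulAut.conj g) (fun w hw => conj_mem_of_mem_normalizer hg hw) v hv
  simpa using this

theorem small_zpowers {x : T} {p : ℕ} (hp : p.Prime) (hx : orderOf x = p) :
    Small (Nat.card (zpowers x)) := by
  rw [Nat.card_zpowers, hx]
  exact small_prime hp

theorem zpowers_ne_bot' {x : T} {p : ℕ} (hp : p.Prime) (hx : orderOf x = p) : zpowers x ≠ ⊥ := by
  intro e
  have h1 : Nat.card (zpowers x) = 1 := by rw [e]; simp
  rw [Nat.card_zpowers, hx] at h1
  exact hp.ne_one h1

/-- Commuting elements of distinct prime orders. -/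
theorem commute_norm (h : Rigid T) {x y : T} {p q : ℕ} (hp : p.Prime) (hq : q.Prime) (hne : p ≠ q)
    (hx : orderOf x = p) (hy : orderOf y = q) (hc : Commute x y) :
    normalizer (zpowers x : Set T) = normalizer (zpowers y : Set T) := by
  have hco : (orderOf x).Coprime (orderOf y) := by
    rw [hx, hy]; exact (Nat.coprime_primes hp hq).2 hne
  have ho : orderOf (x * y) = p * q := by
    rw [hc.orderOf_mul_eq_mul_orderOf_of_coprime hco, hx, hy]
  have key : ∀ (a : T) (r : ℕ), r.Prime → orderOf a = r → a ∈ zpowers (x * y) →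
      normalizer (zpowers (x * y) : Set T) = normalizer (zpowers a : Set T) := by
    intro a r hr ha hmem
    refine h.norm_eq ?_ (small_zpowers hr ha) ?_ (zpowers_ne_bot' hr ha) fun α hα v hv => ?_
    · rw [Nat.card_zpowers, ho]; simpa using small_pow_mul_pow hp hq 1 1
    · exact fun e => zpowers_ne_bot' hr ha (eq_bot_iff.2 (e ▸ zpowers_le.2 hmem))
    · obtain ⟨i, hi⟩ := hα (x * y) (mem_zpowers _)
      obtain ⟨j, rfl⟩ := hv
      obtain ⟨k, hk⟩ := hmem
      refine ⟨j * i, ?_⟩
      show a ^ (j * i) = α (a ^ j)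
      have hk' : (x * y) ^ k = a := hk
      have hi' : (x * y) ^ i = α (x * y) := hi
      rw [map_zpow, ← hk', map_zpow, ← hi', ← zpow_mul, ← zpow_mul, ← zpow_mul]
      congr 1
      ring
  have hpow : ∀ (a b : T) (m n : ℕ), Commute a b → orderOf a = m → orderOf b = n → m.Coprime n →
      a ∈ zpowers (a * b) := by
    intro a b m n hab ha hb hmn
    have h1 : (a * b) ^ n ∈ zpowers (a * b) := pow_mem (mem_zpowers _) n
    rw [hab.mul_pow, show b ^ n = 1 by rw [← hb]; exact pow_orderOf_eq_one b, mul_one] at h1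
    obtain ⟨k, hk⟩ := exists_pow_eq_self_of_coprime (x := a) (n := n) (by rw [ha]; exact hmn.symm)
    have h2 : (a ^ n) ^ k ∈ zpowers (a * b) := pow_mem h1 k
    exact Eq.mp (congrArg (fun c : T => c ∈ zpowers (a * b)) hk) h2
  rw [← key x p hp hx (hpow x y p q hc hx hy ((Nat.coprime_primes hp hq).2 hne)),
    ← key y q hq hy (by rw [hc.eq]; exact hpow y x q p hc.symm hy hx ((Nat.coprime_primes hq hp).2 hne.symm))]

/-- A small centraliser of an involution is self-normalising. -/
theorem normalizer_centralizer (h : Rigid T) {z : T} (hz : orderOf z = 2)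
    (hs : Small (Nat.card (centralizer ({z} : Set T)))) :
    normalizer (centralizer ({z} : Set T) : Set T) = centralizer {z} := by
  have hzC : z ∈ centralizer ({z} : Set T) := mem_centralizer_singleton_iff.2 rfl
  rw [← h.norm_eq (small_zpowers Nat.prime_two hz) hs (zpowers_ne_bot' Nat.prime_two hz)
    (fun e => zpowers_ne_bot' Nat.prime_two hz (eq_bot_iff.2 (e ▸ zpowers_le.2 hzC))) ?_,
    normalizer_zpowers_invol hz]
  intro α hα v hv
  obtain ⟨k, hk⟩ := hα z (mem_zpowers z)
  have hαz : α z = z := by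
    have hk' : z ^ k = α z := hk
    rw [← zpow_mod_orderOf, hz] at hk'
    rcases Int.emod_two_eq_zero_or_one k with e | e <;> push_cast at hk' <;> rw [e] at hk'
    · rw [zpow_zero] at hk'
      have : z = 1 := α.injective (by rw [← hk', map_one])
      rw [this, orderOf_one] at hz
      exact absurd hz (by decide)
    · rw [← hk', zpow_one]
  rw [mem_centralizer_singleton_iff] at hv ⊢
  calc α v * z = α (v * z) := by rw [map_mul, hαz]
    _ = α (z * v) := by rw [hv]
    _ = z * α v := by rw [map_mul, hαz]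

end Rigid

end CfsgLib.Recog.MaxNorm
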