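import Cfsg.Agent.Lib.Recog.MaxNorm.Structure

/-!
The centraliser of a good involution in a rigid group is dihedral of order `4q`.
-/

set_option autoImplicit false
set_option linter.unusedSectionVars false
set_option linter.style.haveILetI false

namespace CfsgLib.Recog.MaxNorm

open Subgroup CfsgLib.Involutions

variable {T : Type*} [Group T] [Finite T]

theorem not_good_pow_eq {w : T} (hw : orderOf w = 2) (hb : ¬ Good w) {a : T} (ha : Commute a w) :
    ∃ k : ℕ, orderOf a = 2 ^ k := by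
  by_cases ha1 : a = 1
  · exact ⟨0, by rw [ha1, orderOf_one, pow_zero]⟩
  refine ⟨_, Nat.eq_prime_pow_of_unique_prime_dvd (orderOf_pos a).ne' fun {d} hd hdd => ?_⟩
  by_contra hd2
  refine hb ⟨a ^ (orderOf a / d), d, hw, hd, hd2, ?_, (ha.pow_left _).symm⟩
  rw [orderOf_pow_of_dvd ((Nat.div_ne_zero_iff_of_dvd hdd).2 ⟨(orderOf_pos a).ne', hd.ne_zero⟩)
    (Nat.div_dvd_of_dvd hdd), Nat.div_div_self hdd (orderOf_pos a).ne']

theorem not_good_small {w : T} (hw : orderOf w = 2) (hb : ¬ Good w) :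
    IsPGroup 2 (centralizer ({w} : Set T)) := by
  intro ⟨a, ha⟩
  obtain ⟨k, hk⟩ := not_good_pow_eq hw hb (mem_centralizer_singleton_iff.1 ha)
  exact ⟨k, Subtype.ext (by
    show a ^ (2 ^ k) = 1
    rw [← hk]; exact pow_orderOf_eq_one a)⟩

variable (rig : Rigid T) (hI : NoIso T)

namespace GD

variable {z x : T} {q : ℕ} (D : GD z x q) {u x' : T} (D' : GD u x' q)
  (hc : Commute u z) (hun : u ∉ cen z) (hzn : z ∉ cen u)
include rig hI D D' hc hun hzn

theorem invol_four {t : T} (htz : Commute t z) (htu : Commute t u) (htt : t * t = 1) :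
    t = 1 ∨ t = z ∨ t = u ∨ t = z * u := by
  by_cases h : t ∈ cen z
  · rcases D.cen_eq rig hI h with e | e
    · exact Or.inl e
    · exact Or.inr (Or.inl e)
  · rcases D.cen_eq rig hI (D.mul_mem_cen rig htt htz h (invol_mul_self D'.oz) hc hun htu) with e | e
    · right; right; left
      rw [mul_eq_one_iff_eq_inv.1 e, invol_inv D'.oz]
    · right; right; right
      rw [← e, mul_assoc, invol_mul_self D'.oz, mul_one]

theorem comm_R {a b : T} (haz : Commute a z) (hau : Commute a u) (hbz : Commute b z)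
    (hbu : Commute b u) : Commute a b := by
  have key : ∀ {z x : T} {q : ℕ} (D : GD z x q), Commute a z → Commute b z →
      Commute (a * b * a⁻¹ * b⁻¹) x := by
    intro z x q D haz hbz
    obtain ⟨i', hi2⟩ := D.conj_x_mem rig haz.inv_left
    obtain ⟨j', hj2⟩ := D.conj_x_mem rig hbz.inv_left
    have hi3 : x ^ i' = a⁻¹ * x * a⁻¹⁻¹ := hi2
    have hj3 : x ^ j' = b⁻¹ * x * b⁻¹⁻¹ := hj2
    have hc1 : b⁻¹ * (a⁻¹ * x * a⁻¹⁻¹) * b⁻¹⁻¹ = a⁻¹ * (b⁻¹ * x * b⁻¹⁻¹) * a⁻¹⁻¹ := by
      rw [← hi3, ← conj_zpow, ← hj3, ← conj_zpow, ← hi3, ← zpow_mul, ← zpow_mul, mul_comm i' j']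
    refine mul_inv_eq_iff_eq_mul.1 ?_
    rw [show a * b * a⁻¹ * b⁻¹ * x * (a * b * a⁻¹ * b⁻¹)⁻¹ =
      a * b * (a⁻¹ * (b⁻¹ * x * b⁻¹⁻¹) * a⁻¹⁻¹) * (a * b)⁻¹ by group, ← hc1]
    group
  set c := a * b * a⁻¹ * b⁻¹ with hc'
  have hcz : Commute c z := ((haz.mul_left hbz).mul_left haz.inv_left).mul_left hbz.inv_left
  have hcu : Commute c u := ((hau.mul_left hbu).mul_left hau.inv_left).mul_left hbu.inv_left
  by_contra hab
  have hc1 : c ≠ 1 := fun e => hab (mul_inv_eq_iff_eq_mul.1 (mul_inv_eq_one.1 e))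
  obtain ⟨k, r, hr, hrd, hk⟩ := exists_prime_pow hc1
  have hr2 : r = 2 := by
    by_contra hr2
    obtain ⟨n, hn⟩ := D.isPGroup_inf rig (invol_mul_self D'.oz) hc hun
      ⟨c, mem_centralizer_singleton_iff.2 hcz.eq, mem_centralizer_singleton_iff.2 hcu.eq⟩
    have hn' : c ^ (2 ^ n) = 1 := congrArg Subtype.val hn
    exact hr2 ((Nat.prime_dvd_prime_iff_eq hr Nat.prime_two).1
      (hr.dvd_of_dvd_pow (hrd.trans (orderOf_dvd_of_pow_eq_one hn'))))
  subst hr2
  have hee := invol_mul_self hk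
  have h1 : c ^ k ∈ cen z := ⟨hee, hcz.pow_left k,
    fun m hm => D.central_of_comm_x rig hee ((key D haz hbz).pow_left k) hm⟩
  have h2 : c ^ k ∈ cen u := ⟨hee, hcu.pow_left k,
    fun m hm => D'.central_of_comm_x rig hee ((key D' hau hbu).pow_left k) hm⟩
  rcases D.cen_eq rig hI h1 with e | e
  · exact invol_ne_one hk e
  · exact hzn (e ▸ h2)

theorem no_root {r : T} (hru : Commute r u) : r * r ≠ z := by
  intro h
  have hrz : Commute r z := h ▸ (Commute.refl r).mul_right (Commute.refl r)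
  have h1 := D.root_comm rig h
  have h2 : r * u * (r * u) = z := by
    rw [hru.symm.mul_mul_mul_comm, h, invol_mul_self D'.oz, mul_one]
  have h3 := D.root_comm rig h2
  have h4 : Commute u x := by
    have := h1.inv_left.mul_left h3
    simpa [← mul_assoc] using this
  exact hun ⟨invol_mul_self D'.oz, hc, fun m hm =>
    D.central_of_comm_x rig (invol_mul_self D'.oz) h4 hm⟩

theorem no_root_mul_of_good (hg : Good (z * u)) {r : T} (hrz : Commute r z) : r * r ≠ z * u := by
  intro h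
  obtain ⟨y, p, Dw⟩ := hg
  have h1 := Dw.root_comm rig h
  have h2 : r * z * (r * z) = z * u := by
    rw [hrz.symm.mul_mul_mul_comm, h, invol_mul_self D.oz, mul_one]
  have h3 := Dw.root_comm rig h2
  have h4 : Commute z y := by
    have := h1.inv_left.mul_left h3
    simpa [← mul_assoc] using this
  have h5 := Dw.cent_eq rig D.oz h4
  refine hun ⟨invol_mul_self D'.oz, hc, fun m hm => ?_⟩
  have h6 : Commute m (z * u) :=
    mem_centralizer_singleton_iff.1 (h5 ▸ mem_centralizer_singleton_iff.2 hm.eq)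
  have h7 := hm.mul_right h6
  rwa [← mul_assoc, invol_mul_self D.oz, one_mul] at h7

theorem no_root_mul_of_bad (hb : ¬ Good (z * u)) {r : T} (hrz : Commute r z) (hru : Commute r u) :
    r * r ≠ z * u := by
  intro hr
  haveI := Fact.mk Nat.prime_two
  have hzz := invol_mul_self D.oz
  have huu := invol_mul_self D'.oz
  have hgz : Good z := ⟨x, q, D⟩
  have hgu : Good u := ⟨x', q, D'⟩
  set w := z * u with hw
  have hzw : z * w = u := by rw [hw, ← mul_assoc, hzz, one_mul]
  have hwu : w * u = z := by rw [hw, mul_assoc, huu, mul_one]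
  have hwz : Commute w z := (Commute.refl z).mul_left hc
  have hwu' : Commute w u := hc.symm.mul_left (Commute.refl u)
  have hne : z ≠ u := fun e => hun (e ▸ self_mem_cen D.oz)
  have hwo : orderOf w = 2 := by
    refine orderOf_eq_prime (by rw [sq, hw, hc.mul_mul_mul_comm, hzz, huu, one_mul]) fun e => hne ?_
    rw [mul_eq_one_iff_eq_inv.1 e, invol_inv D'.oz]
  -- the four-group
  let V : Subgroup T :=
    { carrier := {t | Commute t z ∧ Commute t u ∧ t * t = 1}
      one_mem' := ⟨Commute.one_left z, Commute.one_left u, one_mul 1⟩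
      mul_mem' := fun {a b} ⟨a1, a2, a3⟩ ⟨b1, b2, b3⟩ => ⟨a1.mul_left b1, a2.mul_left b2, by
        rw [(comm_R rig hI D D' hc hun hzn b1 b2 a1 a2).mul_mul_mul_comm, a3, b3, one_mul]⟩
      inv_mem' := fun {a} ⟨a1, a2, a3⟩ => ⟨a1.inv_left, a2.inv_left, by
        rw [inv_eq_of_mul_eq_one_right a3]; exact a3⟩ }
  have hVp : IsPGroup 2 V := fun t => ⟨1, Subtype.ext (by simpa [sq] using t.2.2.2)⟩
  have hzV : z ∈ V := ⟨Commute.refl z, hc.symm, hzz⟩
  have hwV : w ∈ V := ⟨hwz, hwu', invol_mul_self hwo⟩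
  have hbadw : ∀ t ∈ V, t ≠ 1 → ¬ Good t → t = w := fun t ht ht1 htb => by
    rcases invol_four rig hI D D' hc hun hzn ht.1 ht.2.1 ht.2.2 with e | e | e | e
    · exact absurd e ht1
    · exact absurd (e ▸ hgz) htb
    · exact absurd (e ▸ hgu) htb
    · exact e
  have hbad_conj : ∀ g : T, ¬ Good (g * w * g⁻¹) := fun g h => hb (by
    have := h.conj g⁻¹
    simpa [mul_assoc] using this)
  have hVne : V ≠ ⊥ := fun e => invol_ne_one D.oz (mem_bot.1 (e ▸ hzV))
  have hN : normalizer (V : Set T) = normalizer (zpowers w : Set T) := by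
    refine rig.norm_eq (small_of_isPGroup Nat.prime_two hVp) (Rigid.small_zpowers Nat.prime_two hwo) hVne
      (Rigid.zpowers_ne_bot' Nat.prime_two hwo) fun α hα v hv => ?_
    obtain ⟨j, rfl⟩ := hv
    show α (w ^ j) ∈ _
    rw [map_zpow]
    refine zpow_mem ?_ j
    rw [hbadw _ (hα w hwV) (fun e => invol_ne_one hwo (α.injective (by rw [e, map_one]))) fun h => hb (by
      have := h.map α.symm
      simpa using this)]
    exact mem_zpowers w
  rw [normalizer_zpowers_invol hwo] at hN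
  -- elements of `C(w)` fix or swap `z` and `u`
  have hP : ∀ p : T, Commute p w →
      (p * z * p⁻¹ = z ∧ Commute p u) ∨ (p * z * p⁻¹ = u ∧ p * u * p⁻¹ = z) := by
    intro p hp
    have hpw : p * w * p⁻¹ = w := by rw [hp.eq, mul_inv_cancel_right]
    have hpN : p ∈ normalizer (V : Set T) := by
      rw [hN]; exact mem_centralizer_singleton_iff.2 hp.eq
    have h := conj_mem_of_mem_normalizer hpN hzV
    rcases invol_four rig hI D D' hc hun hzn h.1 h.2.1 h.2.2 with e | e | e | e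
    · exact absurd (conj_eq_one_iff.1 e) (invol_ne_one D.oz)
    · refine Or.inl ⟨e, ?_⟩
      have hpz : Commute p z := mul_inv_eq_iff_eq_mul.1 e
      exact hzw ▸ hpz.mul_right hp
    · refine Or.inr ⟨e, ?_⟩
      rw [← hzw, show p * (z * w) * p⁻¹ = p * z * p⁻¹ * (p * w * p⁻¹) by group, e, hpw, ← hwu'.eq, hwu]
    · exact absurd (Eq.mp (congrArg Good e) (hgz.conj p)) hb
  obtain ⟨h, hne', hcom⟩ := hI w hwo
  set g := h * w * h⁻¹ with hg
  have hgg : g * g = 1 := by
    rw [hg, show h * w * h⁻¹ * (h * w * h⁻¹) = h * (w * w) * h⁻¹ by group, invol_mul_self hwo]; group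
  have hg' : g⁻¹ = g := inv_eq_of_mul_eq_one_right hgg
  have hswap : g * z * g⁻¹ = u ∧ g * u * g⁻¹ = z := by
    rcases hP g hcom.symm with ⟨e1, e2⟩ | e
    · exfalso
      have hgV : g ∈ V := ⟨mul_inv_eq_iff_eq_mul.1 e1, e2, hgg⟩
      refine hne' (hbadw g hgV (fun e => invol_ne_one hwo ?_) (hbad_conj h))
      exact conj_eq_one_iff.1 e
    · exact e
  -- a square root of `w` commuting with `g`
  set s := g * r * g⁻¹ with hs
  have hgw : g * w * g⁻¹ = w := by rw [hcom.symm.eq, mul_inv_cancel_right]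
  have hs2 : s * s = w := by
    rw [hs, show g * r * g⁻¹ * (g * r * g⁻¹) = g * (r * r) * g⁻¹ by group, hr, hgw]
  have hsz : Commute s z := by
    have h1 : Commute (g * r * g⁻¹) (g * u * g⁻¹) := hru.map (MulAut.conj g).toMonoidHom
    rwa [hswap.2] at h1
  have hsu : Commute s u := by
    have h1 : Commute (g * r * g⁻¹) (g * z * g⁻¹) := hrz.map (MulAut.conj g).toMonoidHom
    rwa [hswap.1] at h1
  have hsr := comm_R rig hI D D' hc hun hzn hrz hru hsz hsu
  have he : r⁻¹ * s * (r⁻¹ * s) = 1 := by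
    rw [hsr.inv_left.symm.mul_mul_mul_comm, hs2, ← mul_inv_rev, hr, inv_mul_cancel]
  obtain ⟨d, hdd, hdg⟩ : ∃ d, d * d = w ∧ g * d * g⁻¹ = d := by
    have hse : s = r * (r⁻¹ * s) := by group
    have hgs : g * s * g⁻¹ = r := by
      rw [hs, show g * (g * r * g⁻¹) * g⁻¹ = (g * g) * r * (g * g)⁻¹ by group, hgg]; group
    rcases invol_four rig hI D D' hc hun hzn (hrz.inv_left.mul_left hsz) (hru.inv_left.mul_left hsu) he
      with e | e | e | e
    · exact ⟨r, hr, by rw [← hs, hse, e, mul_one]⟩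
    · exfalso
      rw [e] at hse
      rw [hse, show g * (r * z) * g⁻¹ = g * r * g⁻¹ * (g * z * g⁻¹) by group, ← hs, hse, hswap.1,
        mul_assoc] at hgs
      exact invol_ne_one hwo (mul_eq_left.1 hgs)
    · exfalso
      rw [e] at hse
      rw [hse, show g * (r * u) * g⁻¹ = g * r * g⁻¹ * (g * u * g⁻¹) by group, ← hs, hse, hswap.2,
        mul_assoc, hc.eq] at hgs
      exact invol_ne_one hwo (mul_eq_left.1 hgs)
    · rw [e] at hse
      refine ⟨r * z, by rw [hrz.symm.mul_mul_mul_comm, hr, hzz, mul_one], ?_⟩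
      rw [show g * (r * z) * g⁻¹ = g * r * g⁻¹ * (g * z * g⁻¹) by group, ← hs, hse, hswap.1, mul_assoc,
        ← hw, hwu]
  set c := h⁻¹ * d * h with hcd
  have hcw : Commute c w := by
    have h1 : Commute g d := mul_inv_eq_iff_eq_mul.1 hdg
    have h2 : Commute (h⁻¹ * d * h⁻¹⁻¹) (h⁻¹ * g * h⁻¹⁻¹) :=
      h1.symm.map (MulAut.conj h⁻¹).toMonoidHom
    rwa [hg, show h⁻¹ * (h * w * h⁻¹) * h⁻¹⁻¹ = w by group, inv_inv] at h2
  have hcc : c * c = h⁻¹ * w * h := by rw [hcd, ← hdd]; group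
  have hzc : Commute (c * c) z ∧ Commute (c * c) u := by
    rcases hP c hcw with ⟨e1, e2⟩ | ⟨e1, e2⟩
    · have hc1 : Commute c z := mul_inv_eq_iff_eq_mul.1 e1
      exact ⟨hc1.mul_left hc1, e2.mul_left e2⟩
    · constructor <;> refine mul_inv_eq_iff_eq_mul.1 ?_
      · rw [show c * c * z * (c * c)⁻¹ = c * (c * z * c⁻¹) * c⁻¹ by group, e1, e2]
      · rw [show c * c * u * (c * c)⁻¹ = c * (c * u * c⁻¹) * c⁻¹ by group, e2, e1]
  rw [hcc] at hzc
  have hinv : h⁻¹ * w * h⁻¹⁻¹ = h⁻¹ * w * h := by rw [inv_inv]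
  have hVmem : h⁻¹ * w * h ∈ V := ⟨hzc.1, hzc.2, by
    rw [show h⁻¹ * w * h * (h⁻¹ * w * h) = h⁻¹ * (w * w) * h by group, invol_mul_self hwo]; group⟩
  have hfix := hbadw _ hVmem (fun e => invol_ne_one hwo (conj_eq_one_iff.1 (hinv.trans e)))
    (hinv ▸ hbad_conj h⁻¹)
  refine hne' ?_
  rw [hg]
  conv_lhs => rw [← hfix]
  group

theorem four_only {a : T} (haz : Commute a z) (hau : Commute a u) :
    a = 1 ∨ a = z ∨ a = u ∨ a = z * u := by
  obtain ⟨k, hk⟩ : ∃ k, a ^ (2 ^ k) = 1 := by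
    obtain ⟨k, hk⟩ := D.isPGroup_inf rig (invol_mul_self D'.oz) hc hun
      ⟨a, mem_centralizer_singleton_iff.2 haz.eq, mem_centralizer_singleton_iff.2 hau.eq⟩
    exact ⟨k, congrArg Subtype.val hk⟩
  induction k generalizing a with
  | zero => exact Or.inl (by simpa using hk)
  | succ k ih =>
    refine invol_four rig hI D D' hc hun hzn haz hau ?_
    rcases ih (haz.mul_left haz) (hau.mul_left hau) (by
      rw [(Commute.refl a).mul_pow, ← pow_add, ← hk, pow_succ]; congr 1; omega) with e | e | e | e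
    · exact e
    · exact absurd e (no_root rig hI D D' hc hun hzn hau)
    · exact absurd e (no_root rig hI D' D hc.symm hzn hun haz)
    · by_cases hg : Good (z * u)
      · exact absurd e (no_root_mul_of_good rig hI D D' hc hun hzn hg haz)
      · exact absurd e (no_root_mul_of_bad rig hI D D' hc hun hzn hg haz hau)

end GD

end CfsgLib.Recog.MaxNorm
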