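import Cfsg.Agent.Lib.Recog.MaxNorm.Defs
import Cfsg.Agent.Lib.DGroup.Main

/-!
Involution centralisers which are not 2-groups in a rigid group: they are dihedral of order `4q`.
-/

set_option autoImplicit false
set_option linter.unusedSectionVars false

namespace CfsgLib.Recog.MaxNorm

open Subgroup CfsgLib.Involutions

/-- An involution together with a commuting element of odd prime order. -/
structure GD {T : Type*} [Group T] (z x : T) (q : ℕ) : Prop where
  oz : orderOf z = 2
  hq : q.Prime
  odd : q ≠ 2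
  ox : orderOf x = q
  comm : Commute z x

/-- The involution commutes with an element of odd prime order. -/
def Good {T : Type*} [Group T] (z : T) : Prop := ∃ (x : T) (q : ℕ), GD z x q

variable {T : Type*} [Group T] [Finite T]

theorem Good.conj {z : T} (h : Good z) (g : T) : Good (g * z * g⁻¹) := by
  obtain ⟨x, q, h⟩ := h
  refine ⟨g * x * g⁻¹, q, ⟨?_, h.hq, h.odd, ?_, ?_⟩⟩
  · exact (orderOf_injective (MulAut.conj g).toMonoidHom (MulAut.conj g).injective z).trans h.oz
  · exact (orderOf_injective (MulAut.conj g).toMonoidHom (MulAut.conj g).injective x).trans h.ox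
  · exact h.comm.map (MulAut.conj g).toMonoidHom

theorem Good.map {z : T} (h : Good z) (α : MulAut T) : Good (α z) := by
  obtain ⟨x, q, h⟩ := h
  exact ⟨α x, q, ⟨(orderOf_injective α.toMonoidHom α.injective z).trans h.oz, h.hq, h.odd,
    (orderOf_injective α.toMonoidHom α.injective x).trans h.ox, h.comm.map α.toMonoidHom⟩⟩

theorem eq_of_prime_zpowers {x y a : T} {p q : ℕ} (hp : p.Prime) (hq : q.Prime) (hx : orderOf x = p)
    (hy : orderOf y = q) (ha : a ∈ zpowers x) (ha' : a ∈ zpowers y) (ha1 : a ≠ 1) :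
    zpowers x = zpowers y := by
  have key : ∀ (b : T) (r : ℕ), r.Prime → orderOf b = r → a ∈ zpowers b → zpowers a = zpowers b := by
    intro b r hr hb hab
    refine eq_of_le_of_card_ge (zpowers_le.2 hab) ?_
    have h1 : orderOf a ∣ r := by
      have := card_dvd_of_le (zpowers_le.2 hab)
      rwa [Nat.card_zpowers, Nat.card_zpowers, hb] at this
    rcases (Nat.dvd_prime hr).1 h1 with e | e
    · exact absurd (orderOf_eq_one_iff.1 e) ha1
    · rw [Nat.card_zpowers, Nat.card_zpowers, hb, e]
  rw [← key x p hp hx ha, ← key y q hq hy ha']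

theorem eq_one_of_mem_zpowers_of_coprime {a x y : T} (h : (orderOf x).Coprime (orderOf y))
    (ha : a ∈ zpowers x) (ha' : a ∈ zpowers y) : a = 1 :=
  orderOf_eq_one_iff.1 (Nat.eq_one_of_dvd_coprimes h (orderOf_dvd_of_mem_zpowers ha)
    (orderOf_dvd_of_mem_zpowers ha'))

theorem exists_prime_pow {a : T} (ha : a ≠ 1) :
    ∃ (k r : ℕ), r.Prime ∧ r ∣ orderOf a ∧ orderOf (a ^ k) = r := by
  obtain ⟨r, hr, hd⟩ := Nat.exists_prime_and_dvd (fun e => ha (orderOf_eq_one_iff.1 e))
  refine ⟨orderOf a / r, r, hr, hd, ?_⟩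
  rw [orderOf_pow_of_dvd (Nat.div_ne_zero_iff_of_dvd hd |>.2 ⟨(orderOf_pos a).ne', hr.ne_zero⟩)
    (Nat.div_dvd_of_dvd hd), Nat.div_div_self hd (orderOf_pos a).ne']

variable (rig : Rigid T) (hI : NoIso T)

/-- The normaliser of a subgroup of odd prime order normalises every dihedral group above it. -/
theorem conj_mem_of_inverts (rig : Rigid T) {x u : T} {q : ℕ} (hq : q.Prime) (hodd : q ≠ 2) (ox : orderOf x = q)
    (huu : u * u = 1) (hinv : u * x * u⁻¹ = x⁻¹) (hux : u ∉ zpowers x) {m : T}
    (hm : m * x * m⁻¹ ∈ zpowers x) : m * u * m⁻¹ * u ∈ zpowers x := by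
  haveI := Fact.mk hq
  have hu' : u⁻¹ = u := inv_eq_of_mul_eq_one_right huu
  have hinv' : ∀ a ∈ zpowers x, u * a = a⁻¹ * u := by
    rintro _ ⟨i, rfl⟩
    show u * x ^ i = (x ^ i)⁻¹ * u
    rw [← mul_inv_eq_iff_eq_mul, ← conj_zpow, hinv, inv_zpow]
  have hinvol : ∀ h : T, h * u ∈ zpowers x → h * h = 1 := fun h hh => by
    calc h * h = h * u * (u * (h * u)) * u := by
          simp only [mul_assoc, huu, mul_one]; rw [← mul_assoc u u, huu, one_mul]
      _ = h * u * ((h * u)⁻¹ * u) * u := by rw [hinv' _ hh]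
      _ = 1 := by rw [← mul_assoc (h * u), mul_inv_cancel, one_mul, huu]
  let Dh : Subgroup T :=
    { carrier := {h | h ∈ zpowers x ∨ h * u ∈ zpowers x}
      one_mem' := Or.inl (one_mem _)
      mul_mem' := by
        rintro a b (ha | ha) (hb | hb)
        · exact Or.inl (mul_mem ha hb)
        · exact Or.inr (by rw [mul_assoc]; exact mul_mem ha hb)
        · refine Or.inr ?_
          rw [show a * b * u = a * u * (u * b * u) by
            simp only [mul_assoc, huu, mul_one]; rw [← mul_assoc u u, huu, one_mul],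
            show u * b * u = b⁻¹ by rw [hinv' b hb, mul_assoc, huu, mul_one]]
          exact mul_mem ha (inv_mem hb)
        · refine Or.inl ?_
          have e : a * b = a * u * (u * (b * u) * u) := by
            simp only [mul_assoc, huu, mul_one]; rw [← mul_assoc u u, huu, one_mul]
          rw [e, show u * (b * u) * u = (b * u)⁻¹ by rw [hinv' _ hb, mul_assoc, huu, mul_one]]
          exact mul_mem ha (inv_mem hb)
      inv_mem' := by
        rintro a (ha | ha)
        · exact Or.inl (inv_mem ha)
        · exact Or.inr (by rw [inv_eq_of_mul_eq_one_right (hinvol a ha)]; exact ha) }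
  have hle : zpowers x ≤ Dh := fun a ha => Or.inl ha
  have huD : u ∈ Dh := Or.inr (by rw [huu]; exact one_mem _)
  have hcard : Nat.card Dh = 2 * q := by
    have h1 : Dh.relIndex Dh = 1 := relIndex_self Dh
    have h2 : (zpowers x).relIndex Dh = 2 := relIndex_eq_two_iff.2 ⟨u, huD, fun b hb => by
      rcases hb with hb | hb
      · refine Or.inr ⟨hb, fun hh => hux ?_⟩
        exact (mul_mem_cancel_left hb).1 hh
      · refine Or.inl ⟨hb, fun hh => hux ?_⟩
        exact (mul_mem_cancel_left hh).1 hb⟩
    have h3 := (zpowers x).subgroupOf Dh |>.card_mul_index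
    rw [Nat.card_congr (subgroupOfEquivOfLe hle).toEquiv, Nat.card_zpowers, ox] at h3
    rw [← h3]
    show q * (zpowers x).relIndex Dh = 2 * q
    rw [h2, mul_comm]
  have hN : normalizer (Dh : Set T) = normalizer (zpowers x : Set T) := by
    refine rig.norm_eq ?_ (Rigid.small_zpowers hq ox)
      (fun e => Rigid.zpowers_ne_bot' hq ox (eq_bot_iff.2 (e ▸ hle)))
      (Rigid.zpowers_ne_bot' hq ox) fun α hα v hv => ?_
    · rw [hcard]; simpa using small_pow_mul_pow Nat.prime_two hq 1 1
    · rcases hα v (hle hv) with h | h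
      · exact h
      · by_contra hnot
        have hord : orderOf (α v) = 2 := by
          haveI := Fact.mk Nat.prime_two
          refine orderOf_eq_prime ?_ (fun e => hnot (e ▸ one_mem _))
          rw [sq]; exact hinvol _ h
        have h1 : orderOf (α v) ∣ q := by
          rw [show orderOf (α v) = orderOf v from orderOf_injective α.toMonoidHom α.injective v, ← ox]
          exact orderOf_dvd_of_mem_zpowers hv
        rw [hord] at h1
        exact hodd ((Nat.prime_dvd_prime_iff_eq Nat.prime_two hq).1 h1).symm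
  have hmN : m ∈ normalizer (Dh : Set T) := by
    rw [hN]; exact mem_normalizer_zpowers.2 hm
  rcases conj_mem_of_mem_normalizer hmN huD with h | h
  · exfalso
    haveI := Fact.mk Nat.prime_two
    have hu2 : orderOf u = 2 := orderOf_eq_prime (by rw [sq]; exact huu) fun e => hux (e ▸ one_mem _)
    have h1 := orderOf_dvd_of_mem_zpowers h
    rw [ox, show orderOf (m * u * m⁻¹) = orderOf u from
      orderOf_injective (MulAut.conj m).toMonoidHom (MulAut.conj m).injective u, hu2] at h1
    exact hodd ((Nat.prime_dvd_prime_iff_eq Nat.prime_two hq).1 h1).symm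
  · exact h


namespace GD

variable {z x : T} {q : ℕ} (D : GD z x q)
include rig D

theorem norm_eq : normalizer (zpowers x : Set T) = centralizer {z} := by
  rw [← normalizer_zpowers_invol D.oz]
  exact (rig.commute_norm Nat.prime_two D.hq D.odd.symm D.oz D.ox D.comm).symm

theorem conj_x_mem {m : T} (hm : Commute m z) : m * x * m⁻¹ ∈ zpowers x :=
  mem_normalizer_zpowers.1 (by rw [D.norm_eq rig]; exact mem_centralizer_singleton_iff.2 hm.eq)

theorem commute_of_conj {m : T} (h : m * x * m⁻¹ ∈ zpowers x) : Commute m z :=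
  mem_centralizer_singleton_iff.1 (by rw [← D.norm_eq rig]; exact mem_normalizer_zpowers.2 h)

/-- An involution commuting with `x` has the same centraliser as `z`. -/
theorem cent_eq {t : T} (ht : orderOf t = 2) (htx : Commute t x) :
    centralizer ({t} : Set T) = centralizer {z} := by
  have h : GD t x q := ⟨ht, D.hq, D.odd, D.ox, htx⟩
  rw [← h.norm_eq rig, D.norm_eq rig]

theorem x_comm_of_commute {y : T} {r : ℕ} (hr : r.Prime) (hr2 : r ≠ 2) (hy : orderOf y = r)
    (hyz : Commute y z) : Commute x y := by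
  have D' : GD z y r := ⟨D.oz, hr, hr2, hy, hyz.symm⟩
  have h1 : y * x * y⁻¹ ∈ zpowers x := D.conj_x_mem rig hyz
  have h2 : x * y * x⁻¹ ∈ zpowers y := D'.conj_x_mem rig D.comm.symm
  by_cases e : zpowers x = zpowers y
  · obtain ⟨i, hi⟩ := (e ▸ mem_zpowers y : y ∈ zpowers x)
    have hi' : x ^ i = y := hi
    rw [← hi']
    exact (Commute.refl x).zpow_right i
  · have h3 : x * y * x⁻¹ * y⁻¹ ∈ zpowers x := by
      have := mul_mem (mem_zpowers x) (inv_mem h1)
      simpa [mul_assoc] using this
    have h4 : x * y * x⁻¹ * y⁻¹ ∈ zpowers y := mul_mem h2 (inv_mem (mem_zpowers y))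
    by_contra hne
    exact e (eq_of_prime_zpowers D.hq hr D.ox hy h3 h4 fun h =>
      hne (mul_inv_eq_iff_eq_mul.1 (mul_inv_eq_one.1 h)))

theorem central_of_comm_x {t : T} (ht : t * t = 1) (htx : Commute t x) {m : T} (hm : Commute m z) :
    Commute m t := by
  by_cases h : t = 1
  · rw [h]; exact Commute.one_right m
  haveI := Fact.mk Nat.prime_two
  have hto : orderOf t = 2 := orderOf_eq_prime (by rw [sq]; exact ht) h
  exact mem_centralizer_singleton_iff.1
    (by rw [D.cent_eq rig hto htx]; exact mem_centralizer_singleton_iff.2 hm.eq)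

end GD

/-- The involutions central in the centraliser of `z`. -/
def cen (z : T) : Subgroup T where
  carrier := {t | t * t = 1 ∧ Commute t z ∧ ∀ m : T, Commute m z → Commute m t}
  one_mem' := ⟨one_mul 1, Commute.one_left z, fun m _ => Commute.one_right m⟩
  mul_mem' := by
    rintro a b ⟨ha, haz, hac⟩ ⟨hb, hbz, hbc⟩
    refine ⟨?_, haz.mul_left hbz, fun m hm => (hac m hm).mul_right (hbc m hm)⟩
    rw [(hac b hbz).mul_mul_mul_comm, ha, hb, one_mul]
  inv_mem' := by
    rintro a ⟨ha, haz, hac⟩
    rw [inv_eq_of_mul_eq_one_right ha]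
    exact ⟨ha, haz, hac⟩

theorem mem_cen {z t : T} :
    t ∈ cen z ↔ t * t = 1 ∧ Commute t z ∧ ∀ m : T, Commute m z → Commute m t :=
  Iff.rfl

theorem isPGroup_cen (z : T) : IsPGroup 2 (cen z) := fun t =>
  ⟨1, Subtype.ext (by simpa [sq] using t.2.1)⟩

theorem self_mem_cen {z : T} (hz : orderOf z = 2) : z ∈ cen z :=
  ⟨invol_mul_self hz, Commute.refl z, fun _ hm => hm⟩

namespace GD

variable {z x : T} {q : ℕ} (D : GD z x q)
include rig D

theorem conj_cen {g : T} (h : g * z * g⁻¹ ∈ cen z) : g * z * g⁻¹ = z := by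
  set v := g * z * g⁻¹ with hv
  have hvo : orderOf v = 2 :=
    (orderOf_injective (MulAut.conj g).toMonoidHom (MulAut.conj g).injective z).trans D.oz
  have hC : centralizer ({v} : Set T) = centralizer {z} :=
    D.cent_eq rig hvo (h.2.2 x D.comm.symm).symm
  have hne : cen z ≠ ⊥ := fun e => invol_ne_one D.oz ((mem_bot).1 (e ▸ self_mem_cen D.oz))
  have hN : normalizer (zpowers z : Set T) = normalizer (cen z : Set T) := by
    refine rig.norm_eq (Rigid.small_zpowers Nat.prime_two D.oz)
      (small_of_isPGroup Nat.prime_two (isPGroup_cen z)) (Rigid.zpowers_ne_bot' Nat.prime_two D.oz) hne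
      fun α hα t ht => ?_
    have hαz : α z = z := by
      have h1 : orderOf (α z) = 2 := (orderOf_injective α.toMonoidHom α.injective z).trans D.oz
      obtain ⟨k, hk⟩ := hα z (mem_zpowers z)
      have hk' : z ^ k = α z := hk
      rw [← zpow_mod_orderOf, D.oz] at hk'
      rcases Int.emod_two_eq_zero_or_one k with e | e <;> push_cast at hk' <;> rw [e] at hk'
      · rw [zpow_zero] at hk'
        rw [← hk', orderOf_one] at h1
        exact absurd h1 (by decide)
      · rw [← hk', zpow_one]
    refine ⟨by rw [← map_mul, ht.1, map_one], ?_, fun m hm => ?_⟩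
    · rw [← hαz]; exact ht.2.1.map α.toMonoidHom
    · have h2 : Commute (α.symm m) z := by
        have := hm.map α.symm.toMonoidHom
        rwa [MulEquiv.toMonoidHom_eq_coe, MonoidHom.coe_coe,
          (MulEquiv.symm_apply_eq α).2 hαz.symm] at this
      have := (ht.2.2 _ h2).map α.toMonoidHom
      simpa using this
  have hg : g ∈ normalizer (cen z : Set T) := by
    refine mem_normalizer_of_forall fun t ht => ?_
    have hiff : ∀ m : T, Commute m z ↔ Commute m v := fun m => by
      simp only [Commute, SemiconjBy, ← mem_centralizer_singleton_iff, hC]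
    refine ⟨?_, ?_, fun m hm => ?_⟩
    · rw [show g * t * g⁻¹ * (g * t * g⁻¹) = g * (t * t) * g⁻¹ by group, ht.1]; group
    · exact (hiff _).2 (ht.2.1.map (MulAut.conj g).toMonoidHom)
    · have h3 : Commute (g⁻¹ * m * g) z := by
        have := ((hiff m).1 hm).map (MulAut.conj g⁻¹).toMonoidHom
        simpa [hv, mul_assoc] using this
      have := (ht.2.2 _ h3).map (MulAut.conj g).toMonoidHom
      simpa [mul_assoc] using this
  rw [← hN, normalizer_zpowers_invol D.oz, mem_centralizer_singleton_iff] at hg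
  rw [hv, hg, mul_inv_cancel_right]

include hI in
theorem exists_mate :
    ∃ g : T, Commute (g * z * g⁻¹) z ∧ g * z * g⁻¹ ∉ cen z := by
  obtain ⟨g, hne, hc⟩ := hI z D.oz
  exact ⟨g, hc.symm, fun h => hne (D.conj_cen rig h)⟩

theorem inverts {u : T} (huu : u * u = 1) (huz : Commute u z) (hun : u ∉ cen z) :
    u * x * u⁻¹ = x⁻¹ ∧ u ∉ zpowers x := by
  haveI := Fact.mk D.hq
  have hncx : ¬ Commute u x := fun h => hun ⟨huu, huz, fun m hm => D.central_of_comm_x rig huu h hm⟩
  refine ⟨?_, fun h => ?_⟩
  · set c := u * x * u⁻¹ * x with hc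
    have hcx : c ∈ zpowers x := mul_mem (D.conj_x_mem rig huz) (mem_zpowers x)
    by_contra hne
    have hc1 : c ≠ 1 := fun e => hne (mul_eq_one_iff_eq_inv.1 e)
    have hux : u⁻¹ = u := inv_eq_of_mul_eq_one_right huu
    obtain ⟨i, hi⟩ := D.conj_x_mem rig huz
    have hi' : x ^ i = u * x * u⁻¹ := hi
    have hconj : u * c * u⁻¹ = c := by
      have h2 : u * (u * x * u⁻¹) * u⁻¹ = x := by
        rw [hux, show u * (u * x * u) * u = u * u * x * (u * u) by group, huu, one_mul, mul_one]
      rw [hc, show u * (u * x * u⁻¹ * x) * u⁻¹ = u * (u * x * u⁻¹) * u⁻¹ * (u * x * u⁻¹) by group, h2,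
        ← hi']
      exact ((Commute.refl x).zpow_right i).eq
    have hgen : zpowers c = zpowers x :=
      (eq_of_prime_zpowers D.hq D.hq D.ox
        (by
          rcases (Nat.dvd_prime D.hq).1 (D.ox ▸ orderOf_dvd_of_mem_zpowers hcx) with e | e
          · exact absurd (orderOf_eq_one_iff.1 e) hc1
          · exact e) hcx (mem_zpowers c) hc1).symm
    obtain ⟨j, hj⟩ := (hgen ▸ mem_zpowers x : x ∈ zpowers c)
    have hj' : c ^ j = x := hj
    exact hncx (hj' ▸ (show Commute u c from mul_inv_eq_iff_eq_mul.1 hconj).zpow_right j)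
  · obtain ⟨i, hi⟩ := h
    have hi' : x ^ i = u := hi
    exact hncx (hi' ▸ (Commute.refl x).zpow_left i)

theorem conj_invol_mem {u : T} (huu : u * u = 1) (huz : Commute u z) (hun : u ∉ cen z) {m : T}
    (hm : Commute m z) : m * u * m⁻¹ * u ∈ zpowers x :=
  conj_mem_of_inverts rig D.hq D.odd D.ox huu (D.inverts rig huu huz hun).1 (D.inverts rig huu huz hun).2
    (D.conj_x_mem rig hm)

end GD

end CfsgLib.Recog.MaxNorm
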