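import Cfsg.Agent.Lib.Recog.MaxNorm.PSLFacts
import Cfsg.Agent.Lib.Classical.PSLSimple

/-!
Elements of `PSL₂(13)`.
-/

set_option autoImplicit false
set_option linter.style.haveILetI false

namespace CfsgLib.Recog.MaxNorm

open Matrix CfsgLib.KnownB.SL2Products CfsgLib.GLTwo

local notation "SL13" => Matrix.SpecialLinearGroup (Fin 2) (ZMod 13)
local notation "L13" => Matrix.ProjectiveSpecialLinearGroup (Fin 2) (ZMod 13)

/-- The field with thirteen elements. -/
local instance fact_thirteen' : Fact (Nat.Prime 13) := ⟨by norm_num⟩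

theorem pr_eq_of_neg {g h : SL13} (e : g = h ∨ g = -h) : pr g = pr h := by
  rcases e with rfl | rfl
  · rfl
  · exact pr_neg h

theorem pr_ne_of {g h : SL13} (h1 : (g : Matrix (Fin 2) (Fin 2) (ZMod 13)) ≠ h)
    (h2 : (g : Matrix (Fin 2) (Fin 2) (ZMod 13)) ≠ -(h : Matrix (Fin 2) (Fin 2) (ZMod 13))) : pr g ≠ pr h := fun e => by
  have h0 : pr (h⁻¹ * g) = 1 := by rw [map_mul, map_inv, e, inv_mul_cancel]
  rcases CfsgLib.Involutions.SLTwoTori.scalar_eq (pr_eq_one_iff.1 h0) with h' | h'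
  · exact h1 (by rw [inv_mul_eq_one.1 h'])
  · exact h2 (by rw [inv_mul_eq_iff_eq_mul.1 h', mul_neg, mul_one]; rfl)

theorem isSimpleGroup_thirteen : IsSimpleGroup L13 :=
  CfsgLib.Classical.isSimpleGroup_PSL_fin 2 le_rfl fun _ => by rw [Nat.card_zmod]; norm_num

set_option maxRecDepth 10000 in
theorem witness_odd {p : ℕ} (hp : p = 3 ∨ p = 7 ∨ p = 13) :
    ∃ (k g : L13) (j : ℕ), orderOf k = p ∧ 2 ≤ j ∧ j < p ∧ g * k * g⁻¹ = k ^ j := by
  haveI := Fact.mk Nat.prime_three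
  haveI : Fact (Nat.Prime 7) := ⟨by norm_num⟩
  let k3 : SL13 := ⟨!![0, 1; 12, 1], by decide⟩
  let k7 : SL13 := ⟨!![0, 1; 12, 3], by decide⟩
  let k13 : SL13 := ⟨!![0, 1; 12, 2], by decide⟩
  let g1 : SL13 := ⟨!![0, 5; 5, 0], by decide⟩
  let g2 : SL13 := ⟨!![0, 2; 6, 9], by decide⟩
  have one_eq : (1 : L13) = pr 1 := (map_one pr).symm
  rcases hp with rfl | rfl | rfl
  · refine ⟨pr k3, pr g1, 2, orderOf_eq_prime ?_ ?_, by norm_num, by norm_num, ?_⟩
    · rw [← map_pow, one_eq]; exact pr_eq_of_neg (by decide +kernel)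
    · rw [one_eq]; exact pr_ne_of (by decide +kernel) (by decide +kernel)
    · rw [mul_inv_eq_iff_eq_mul, ← map_pow, ← map_mul, ← map_mul]
      exact pr_eq_of_neg (by decide +kernel)
  · refine ⟨pr k7, pr g1, 6, orderOf_eq_prime ?_ ?_, by norm_num, by norm_num, ?_⟩
    · rw [← map_pow, one_eq]; exact pr_eq_of_neg (by decide +kernel)
    · rw [one_eq]; exact pr_ne_of (by decide +kernel) (by decide +kernel)
    · rw [mul_inv_eq_iff_eq_mul, ← map_pow, ← map_mul, ← map_mul]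
      exact pr_eq_of_neg (by decide +kernel)
  · refine ⟨pr k13, pr g2, 4, orderOf_eq_prime ?_ ?_, by norm_num, by norm_num, ?_⟩
    · rw [← map_pow, one_eq]; exact pr_eq_of_neg (by decide +kernel)
    · rw [one_eq]; exact pr_ne_of (by decide +kernel) (by decide +kernel)
    · rw [mul_inv_eq_iff_eq_mul, ← map_pow, ← map_mul, ← map_mul]
      exact pr_eq_of_neg (by decide +kernel)

set_option maxRecDepth 10000 in
theorem witness_four : ∃ a b y : L13, orderOf a = 2 ∧ orderOf b = 2 ∧ Commute a b ∧ a ≠ b ∧ y * a * y⁻¹ = b ∧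
    y * b * y⁻¹ = a * b := by
  haveI := Fact.mk Nat.prime_two
  let A : SL13 := ⟨!![0, 1; 12, 0], by decide⟩
  let B : SL13 := ⟨!![0, 5; 5, 0], by decide⟩
  let Y : SL13 := ⟨!![2, 2; 3, 10], by decide⟩
  have one_eq : (1 : L13) = pr 1 := (map_one pr).symm
  refine ⟨pr A, pr B, pr Y, orderOf_eq_prime ?_ ?_, orderOf_eq_prime ?_ ?_, ?_, ?_, ?_, ?_⟩
  · rw [← map_pow, one_eq]; exact pr_eq_of_neg (by decide +kernel)
  · rw [one_eq]; exact pr_ne_of (by decide +kernel) (by decide +kernel)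
  · rw [← map_pow, one_eq]; exact pr_eq_of_neg (by decide +kernel)
  · rw [one_eq]; exact pr_ne_of (by decide +kernel) (by decide +kernel)
  · show pr A * pr B = pr B * pr A
    rw [← map_mul, ← map_mul]; exact pr_eq_of_neg (by decide +kernel)
  · exact pr_ne_of (by decide +kernel) (by decide +kernel)
  · rw [mul_inv_eq_iff_eq_mul, ← map_mul, ← map_mul]
    exact pr_eq_of_neg (by decide +kernel)
  · rw [mul_inv_eq_iff_eq_mul, ← map_mul, ← map_mul, ← map_mul]
    exact pr_eq_of_neg (by decide +kernel)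

end CfsgLib.Recog.MaxNorm
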