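import Cfsg.Agent.Lib.Recog.MaxNorm.Reduction
import Cfsg.Agent.Lib.Recog.MaxNorm.Cover
import Cfsg.Agent.Lib.Recog.MaxNorm.Witness
import Cfsg.Agent.Lib.FgsC.Hamiltonian

/-!
Groups with maximal normalisers whose quotient by a normal subgroup is `PSL₂(13)`.
-/

set_option autoImplicit false
set_option linter.unusedSectionVars false
set_option linter.style.haveILetI false

namespace CfsgLib.Recog.MaxNorm

open Subgroup

local notation "L13" => Matrix.ProjectiveSpecialLinearGroup (Fin 2) (ZMod 13)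
local notation "SL13" => Matrix.SpecialLinearGroup (Fin 2) (ZMod 13)

/-- The field with thirteen elements. -/
local instance fact_thirteen'' : Fact (Nat.Prime 13) := ⟨by norm_num⟩

theorem not_small_L13 : ¬ Small (Nat.card L13) := by
  rintro ⟨p, q, -, -, h⟩
  rw [card_L13] at h
  have h2 := h 2 Nat.prime_two (by norm_num)
  have h3 := h 3 Nat.prime_three (by norm_num)
  have h7 := h 7 (by norm_num) (by norm_num)
  omega

theorem not_subnormal_thirteen {X : Subgroup L13} (hs : Small (Nat.card X)) (hne : X ≠ ⊥) :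
    ¬ X.IsSubnormal := fun h => by
  rcases h.eq_bot_or_top_of_isSimpleGroup isSimpleGroup_thirteen with e | e
  · exact hne e
  · rw [e, card_top] at hs; exact not_small_L13 hs

theorem commutator_L13 : commutator L13 = ⊤ := by
  haveI := isSimpleGroup_thirteen
  refine (Normal.eq_bot_or_eq_top (inferInstanceAs (commutator L13).Normal)).resolve_left fun hb => ?_
  obtain ⟨k, g, j, hk, hj, hjp, hconj⟩ := witness_odd (p := 3) (Or.inl rfl)
  have hc : g * k * g⁻¹ * k⁻¹ ∈ commutator L13 := by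
    rw [commutator_def]; exact commutator_mem_commutator (mem_top g) (mem_top k)
  rw [hb, mem_bot, mul_inv_eq_one, hconj] at hc
  obtain rfl : j = 2 := by omega
  rw [sq, mul_eq_left] at hc
  rw [hc, orderOf_one] at hk
  omega

variable {G : Type*} [Group G] [Finite G] (π : G →* L13) (hπ : Function.Surjective π) (h : MaxNormSub G)
include hπ h

theorem ker_le_norm {H : Subgroup G} (hs : Small (Nat.card H)) (hne : H.map π ≠ ⊥) :
    π.ker ≤ normalizer (H : Set G) ∧
      ∀ g : G, π g ∈ normalizer ((H.map π : Subgroup L13) : Set L13) → g ∈ normalizer (H : Set G) := by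
  obtain ⟨h1, h2, -⟩ := normalizer_image π h hπ hs
    (not_subnormal_thirteen (small_of_dvd hs (Subgroup.card_map_dvd H π)) hne)
  exact ⟨h1, fun g hg => by rw [h2]; exact hg⟩

theorem exists_least :
    ∃ K : Subgroup G, K.Normal ∧ K.map π = ⊤ ∧ commutator K = ⊤ ∧
      ∀ N : Subgroup G, N.Normal → N.map π = ⊤ → K ≤ N := by
  haveI : Finite (Subgroup G) := Finite.of_injective (fun K => (K : Set G)) SetLike.coe_injective
  obtain ⟨K, -, hK⟩ := (Set.toFinite {N : Subgroup G | N.Normal ∧ N.map π = ⊤}).exists_le_minimal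
    (a := ⊤) ⟨inferInstance, map_top_of_surjective π hπ⟩
  haveI := hK.prop.1
  have hcomm : ∀ N : Subgroup G, N.Normal → N.map π = ⊤ → K ≤ ⁅N, K⁆ := by
    intro N hN hNm
    haveI := hN
    refine hK.le_of_le ⟨inferInstance, ?_⟩ (commutator_le_right N K)
    rw [map_commutator, hNm, hK.prop.2, ← commutator_def, commutator_L13]
  refine ⟨K, hK.prop.1, hK.prop.2, ?_, fun N hN hNm => ?_⟩
  · refine map_injective K.subtype_injective ?_
    rw [map_subtype_commutator, ← MonoidHom.range_eq_map, range_subtype]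
    exact le_antisymm (commutator_le_right K K) (hcomm K inferInstance hK.prop.2)
  · haveI := hN
    exact (hcomm N hN hNm).trans (commutator_le_left N K)

/-- Elements with a normal cyclic `p`-subgroup in the kernel lie in a normal `p`-subgroup. -/
theorem exists_core_commutator (p : ℕ) (hp : p.Prime) (hpL : p ∣ 1092) (K : Subgroup G)
    (hK : ∀ N : Subgroup G, N.Normal → N.map π = ⊤ → K ≤ N) :
    ∀ k ∈ K, ∀ r ∈ π.ker, ∃ n : ℕ, orderOf (r * k * r⁻¹ * k⁻¹) ∣ p ^ n := by
  haveI := Fact.mk hp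
  set R := π.ker
  let S : Set G := {a | a ∈ R ∧ (∃ n, orderOf a ∣ p ^ n) ∧ ∀ r ∈ R, r * a * r⁻¹ ∈ zpowers a}
  set A := closure S with hA
  have hAp : ∀ a ∈ A, ∃ n, orderOf a ∣ p ^ n := by
    obtain ⟨P⟩ : Nonempty (Sylow p R) := inferInstance
    have hle : A ≤ (P : Subgroup R).map R.subtype := by
      rw [hA, closure_le]
      intro a ⟨haR, ⟨n, hn⟩, hnorm⟩
      set Z := zpowers (⟨a, haR⟩ : R) with hZ
      haveI : Z.Normal := ⟨fun v hv r => by
        obtain ⟨i, rfl⟩ := hv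
        obtain ⟨l, hl⟩ := hnorm r r.2
        have hl' : a ^ l = (r : G) * a * (r : G)⁻¹ := hl
        refine ⟨l * i, Subtype.ext ?_⟩
        show ((⟨a, haR⟩ : R) ^ (l * i) : R).1 = r.1 * ((⟨a, haR⟩ : R) ^ i : R).1 * r.1⁻¹
        rw [Subgroup.coe_zpow, Subgroup.coe_zpow, Subgroup.coe_mk, ← conj_zpow, ← hl', ← zpow_mul]⟩
      have hZp : IsPGroup p Z := by
        obtain ⟨m, -, hm⟩ := (Nat.dvd_prime_pow hp).1 hn
        exact IsPGroup.of_card (n := m) (by rw [Nat.card_zpowers, Subgroup.orderOf_mk]; exact hm)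
      have hsup := P.isPGroup'.to_sup_of_normal_right hZp
      exact ⟨⟨a, haR⟩, (P.is_maximal' hsup le_sup_left) ▸ le_sup_right (a := (P : Subgroup R)) (mem_zpowers (⟨a, haR⟩ : R)), rfl⟩
    intro a ha
    obtain ⟨b, hb, rfl⟩ := hle ha
    obtain ⟨n, hn⟩ := P.isPGroup' ⟨b, hb⟩
    exact ⟨n, orderOf_dvd_of_pow_eq_one (congrArg (fun t : (P : Subgroup R) => ((t : R) : G)) hn)⟩
  haveI hAn : A.Normal := by
    refine ⟨fun a ha g => ?_⟩
    have hsub : A ≤ A.comap (MulAut.conj g).toMonoidHom := by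
      refine (closure_le _).2 ?_
      intro b ⟨hbR, ⟨n, hn⟩, hnorm⟩
      refine subset_closure ⟨(inferInstance : π.ker.Normal).conj_mem b hbR g, ⟨n, ?_⟩, fun r hr => ?_⟩
      · rwa [orderOf_injective (MulAut.conj g).toMonoidHom (MulAut.conj g).injective b]
      · obtain ⟨l, hl⟩ := hnorm (g⁻¹ * r * g) (by
          have := (inferInstance : π.ker.Normal).conj_mem r hr g⁻¹
          rwa [inv_inv] at this)
        have hl' : b ^ l = g⁻¹ * r * g * b * (g⁻¹ * r * g)⁻¹ := hl
        refine ⟨l, ?_⟩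
        show (g * b * g⁻¹) ^ l = r * (g * b * g⁻¹) * r⁻¹
        rw [conj_zpow, hl']
        group
    exact hsub ha
  let q := QuotientGroup.mk' A
  set C := (centralizer ((R.map q : Subgroup (G ⧸ A)) : Set (G ⧸ A))).comap q with hC
  let E : Set G := {k | (∃ n, orderOf k ∣ p ^ n) ∧ π k ≠ 1}
  have hEC : closure E ≤ C := by
    rw [closure_le]
    intro k ⟨⟨n, hn⟩, hk1⟩
    show q k ∈ centralizer _
    rw [mem_centralizer_iff]
    rintro _ ⟨r, hr, rfl⟩
    have hsmall : Small (Nat.card (zpowers k)) := by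
      rw [Nat.card_zpowers]
      exact small_of_dvd (by simpa using small_pow_mul_pow hp hp n 0) hn
    have hne : (zpowers k).map π ≠ ⊥ := fun e => hk1 (mem_bot.1 (e ▸ ⟨k, mem_zpowers k, rfl⟩))
    have hR := (ker_le_norm π hπ h hsmall hne).1
    have hcR : r * k * r⁻¹ * k⁻¹ ∈ R := by
      have := mul_mem hr ((inferInstance : π.ker.Normal).conj_mem r⁻¹ (inv_mem hr) k)
      simpa [mul_assoc] using this
    obtain ⟨i, hi⟩ : r * k * r⁻¹ * k⁻¹ ∈ zpowers k :=
      mul_mem (mem_normalizer_zpowers.1 (hR hr)) (inv_mem (mem_zpowers k))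
    have hi' : k ^ i = r * k * r⁻¹ * k⁻¹ := hi
    have hmem : r * k * r⁻¹ * k⁻¹ ∈ A := by
      refine subset_closure ⟨hcR, ⟨n, (orderOf_dvd_of_mem_zpowers ⟨i, hi⟩).trans hn⟩, fun r' hr' => ?_⟩
      obtain ⟨l, hl⟩ := mem_normalizer_zpowers.1 (hR hr')
      have hl' : k ^ l = r' * k * r'⁻¹ := hl
      refine ⟨l, ?_⟩
      show (r * k * r⁻¹ * k⁻¹) ^ l = r' * (r * k * r⁻¹ * k⁻¹) * r'⁻¹
      rw [← hi', ← conj_zpow, ← hl', ← zpow_mul, ← zpow_mul, mul_comm]
    have h1 : q (r * k * r⁻¹ * k⁻¹) = 1 := (QuotientGroup.eq_one_iff _).2 hmem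
    rw [map_mul, map_mul, map_mul, map_inv, map_inv, mul_inv_eq_one, mul_inv_eq_iff_eq_mul] at h1
    exact h1
  haveI hEn : (closure E).Normal := by
    refine ⟨fun a ha g => ?_⟩
    have hsub : closure E ≤ (closure E).comap (MulAut.conj g).toMonoidHom := by
      refine (closure_le _).2 ?_
      intro k ⟨⟨n, hn⟩, hk1⟩
      refine subset_closure ⟨⟨n, ?_⟩, ?_⟩
      · rwa [orderOf_injective (MulAut.conj g).toMonoidHom (MulAut.conj g).injective k]
      · show π (g * k * g⁻¹) ≠ 1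
        rw [map_mul, map_mul, map_inv]
        exact fun e => hk1 (conj_eq_one_iff.1 e)
    exact hsub ha
  have htop : (closure E).map π = ⊤ := by
    haveI := isSimpleGroup_thirteen
    haveI : ((closure E).map π).Normal := hEn.map π hπ
    refine (Normal.eq_bot_or_eq_top this).resolve_left fun hb => ?_
    obtain ⟨xb, hxb⟩ := exists_prime_orderOf_dvd_card' p (G := L13) (by rw [card_L13]; exact hpL)
    obtain ⟨g, rfl⟩ := hπ xb
    obtain ⟨m, hm, hmp⟩ : ∃ m, orderOf g = p ^ (orderOf g).factorization p * m ∧ ¬ p ∣ m :=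
      ⟨orderOf g / p ^ (orderOf g).factorization p,
        (Nat.ordProj_mul_ordCompl_eq_self (orderOf g) p).symm,
        Nat.not_dvd_ordCompl hp (orderOf_pos g).ne'⟩
    have hk : g ^ m ∈ closure E := by
      refine subset_closure ⟨⟨(orderOf g).factorization p, orderOf_dvd_of_pow_eq_one ?_⟩, ?_⟩
      · rw [← pow_mul, mul_comm, ← hm, pow_orderOf_eq_one]
      · rw [map_pow, Ne, ← orderOf_dvd_iff_pow_eq_one, hxb]; exact hmp
    have : π (g ^ m) ∈ (closure E).map π := ⟨_, hk, rfl⟩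
    rw [hb] at this
    rw [mem_bot, map_pow, ← orderOf_dvd_iff_pow_eq_one, hxb] at this
    exact hmp this
  intro k hk r hr
  have hkC : q k ∈ centralizer ((R.map q : Subgroup (G ⧸ A)) : Set (G ⧸ A)) :=
    hEC (hK _ hEn htop hk)
  have h2 := mem_centralizer_iff.1 hkC (q r) ⟨r, hr, rfl⟩
  refine hAp _ ((QuotientGroup.eq_one_iff _).1 ?_)
  show q (r * k * r⁻¹ * k⁻¹) = 1
  rw [map_mul, map_mul, map_mul, map_inv, map_inv, mul_inv_eq_one, mul_inv_eq_iff_eq_mul, h2]

theorem commute_ker {K : Subgroup G} (hK : ∀ N : Subgroup G, N.Normal → N.map π = ⊤ → K ≤ N)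
    {k r : G} (hk : k ∈ K) (hr : r ∈ π.ker) : Commute r k := by
  obtain ⟨a, ha⟩ := exists_core_commutator π hπ h 3 Nat.prime_three (by norm_num) K hK k hk r hr
  obtain ⟨b, hb⟩ := exists_core_commutator π hπ h 7 (by norm_num) (by norm_num) K hK k hk r hr
  have h1 : r * k * r⁻¹ * k⁻¹ = 1 :=
    orderOf_eq_one_iff.1 (Nat.eq_one_of_dvd_coprimes (Nat.Coprime.pow a b (by norm_num)) ha hb)
  exact mul_inv_eq_iff_eq_mul.1 (mul_inv_eq_one.1 h1)

variable {K : Subgroup G} (hsup : K.map π = ⊤)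
  (hcK : ∀ k ∈ K, ∀ r ∈ π.ker, Commute r k) (hexp : ∀ t ∈ π.ker, t ∈ K → t * t = 1)

omit h in
include hsup in
theorem exists_decomp (g : G) : ∃ k ∈ K, ∃ r ∈ π.ker, g = k * r := by
  obtain ⟨k, hk, hkg⟩ := (hsup ▸ mem_top (π g) : π g ∈ K.map π)
  exact ⟨k, hk, k⁻¹ * g, by rw [MonoidHom.mem_ker, map_mul, map_inv, hkg, inv_mul_cancel],
    (mul_inv_cancel_left k g).symm⟩

omit h in
include hsup hcK in
theorem central_inf {c : G} (hcR : c ∈ π.ker) (hc : c ∈ K) (g : G) : Commute g c := by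
  obtain ⟨k, hk, r, hr, rfl⟩ := exists_decomp π hπ hsup g
  exact (hcK k hk c hcR).symm.mul_left (hcK c hc r hr)

omit h in
include hsup hexp in
theorem exists_lift_order {x : L13} {p : ℕ} (hp : p.Prime) (hp2 : p ≠ 2) (hx : orderOf x = p) :
    ∃ k ∈ K, π k = x ∧ k ^ p = 1 := by
  obtain ⟨k0, hk0, rfl⟩ := (hsup ▸ mem_top x : x ∈ K.map π)
  obtain ⟨m, hm⟩ := hp.odd_of_ne_two hp2
  have hxp : π k0 ^ p = 1 := by rw [← hx]; exact pow_orderOf_eq_one _
  refine ⟨k0 ^ (p + 1), pow_mem hk0 _, by rw [map_pow, pow_succ, hxp, one_mul], ?_⟩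
  have hsq := hexp _ (show k0 ^ p ∈ π.ker by rw [MonoidHom.mem_ker, map_pow, hxp]) (pow_mem hk0 p)
  rw [← pow_mul, show (p + 1) * p = (p + p) * (m + 1) by rw [hm]; ring, pow_mul,
    show k0 ^ (p + p) = 1 by rw [pow_add]; exact hsq, one_pow]

include hsup hcK hexp in
theorem no_odd_element {p : ℕ} (hp : p = 3 ∨ p = 7 ∨ p = 13) {r : G} (hr : r ∈ π.ker) (hrp : r ^ p = 1) :
    r = 1 := by
  by_contra hne
  have hpp : p.Prime := by rcases hp with rfl | rfl | rfl <;> norm_num
  have hp2 : p ≠ 2 := by rcases hp with rfl | rfl | rfl <;> norm_num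
  haveI := Fact.mk hpp
  obtain ⟨xb, gb, j, hxb, hj2, hjp, hconj⟩ := witness_odd hp
  obtain ⟨k, hk, rfl, hkp⟩ := exists_lift_order π hπ hsup hexp hpp hp2 hxb
  obtain ⟨g, hg, rfl⟩ := (hsup ▸ mem_top gb : gb ∈ K.map π)
  have htriv : ∀ t ∈ π.ker, t ∈ K → t ^ p = 1 → t = 1 := fun t h1 h2 h3 =>
    orderOf_eq_one_iff.1 (Nat.eq_one_of_dvd_coprimes ((Nat.coprime_primes Nat.prime_two hpp).2 hp2.symm)
      (orderOf_dvd_of_pow_eq_one (by rw [sq]; exact hexp t h1 h2)) (orderOf_dvd_of_pow_eq_one h3))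
  have hkg : g * k * g⁻¹ = k ^ j := by
    refine mul_inv_eq_one.1 (htriv _ ?_ (mul_mem (mul_mem (mul_mem hg hk) (inv_mem hg)) (inv_mem (pow_mem hk j))) ?_)
    · rw [MonoidHom.mem_ker, map_mul, map_mul, map_mul, map_inv, map_inv, map_pow, hconj, mul_inv_cancel]
    · have hker : g * k * g⁻¹ * (k ^ j)⁻¹ ∈ π.ker := by
        rw [MonoidHom.mem_ker, map_mul, map_mul, map_mul, map_inv, map_inv, map_pow, hconj, mul_inv_cancel]
      set t := g * k * g⁻¹ * (k ^ j)⁻¹ with ht
      have hc : Commute t (k ^ j) := (hcK (k ^ j) (pow_mem hk j) t hker)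
      have h1 : (g * k * g⁻¹) ^ p = 1 := by rw [conj_pow, hkp, mul_one, mul_inv_cancel]
      rw [show g * k * g⁻¹ = t * k ^ j by rw [ht, inv_mul_cancel_right], hc.mul_pow, ← pow_mul, mul_comm j p,
        pow_mul, hkp, one_pow, mul_one] at h1
      exact h1
  have hcomm : Commute r k := hcK k hk r hr
  have hr1 : orderOf r = p := orderOf_eq_prime hrp hne
  have hπkr : π (k * r) = π k := by rw [map_mul, MonoidHom.mem_ker.1 hr, mul_one]
  have hp' : orderOf (k * r) ∣ p := orderOf_dvd_of_pow_eq_one (by rw [hcomm.symm.mul_pow, hkp, hrp, one_mul])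
  have hsmall : Small (Nat.card (zpowers (k * r))) := by
    rw [Nat.card_zpowers]; exact small_of_dvd (small_prime hpp) hp'
  have hmap : (zpowers (k * r)).map π = zpowers (π k) := by rw [MonoidHom.map_zpowers, hπkr]
  have hneb : (zpowers (k * r)).map π ≠ ⊥ := by rw [hmap]; exact Rigid.zpowers_ne_bot' hpp hxb
  have hgN := (ker_le_norm π hπ h hsmall hneb).2 g (by
    rw [hmap]; refine mem_normalizer_zpowers.2 ?_; rw [hconj]; exact pow_mem (mem_zpowers _) j)
  obtain ⟨i, hi⟩ := mem_normalizer_zpowers.1 hgN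
  have hi' : (k * r) ^ i = g * (k * r) * g⁻¹ := hi
  have hgr : g * r * g⁻¹ = r := by rw [← (hcK g hg r hr).eq, mul_inv_cancel_right]
  rw [hcomm.symm.mul_zpow, show g * (k * r) * g⁻¹ = g * k * g⁻¹ * (g * r * g⁻¹) by group, hkg, hgr] at hi'
  have hkey : (k ^ j)⁻¹ * k ^ i = r * (r ^ i)⁻¹ := by
    rw [eq_mul_inv_iff_mul_eq, mul_assoc, hi', inv_mul_cancel_left]
  have h2 : r * (r ^ i)⁻¹ = 1 := by
    refine htriv _ (mul_mem hr (inv_mem (zpow_mem hr i))) (hkey ▸ mul_mem (inv_mem (pow_mem hk j)) (zpow_mem hk i)) ?_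
    rw [((Commute.refl r).zpow_right i).inv_right.mul_pow, hrp, one_mul, inv_pow, ← zpow_natCast, ← zpow_mul,
      mul_comm, zpow_mul, zpow_natCast, hrp, one_zpow, inv_one]
  have hri : (r ^ i : G) = r := (mul_inv_eq_one.1 h2).symm
  rw [h2] at hkey
  have hki : k ^ i = k ^ (j : ℤ) := by rw [zpow_natCast]; exact (inv_mul_eq_one.1 hkey).symm
  have e1 : (p : ℤ) ∣ i - 1 := by
    rw [← hr1]; exact orderOf_dvd_iff_zpow_eq_one.2 (by rw [zpow_sub, hri, zpow_one, mul_inv_cancel])
  have hko : orderOf k = p := orderOf_eq_prime hkp fun e => by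
    rw [e, map_one, orderOf_one] at hxb; exact hpp.ne_one hxb.symm
  have e2 : (p : ℤ) ∣ i - j := by
    rw [← hko]; exact orderOf_dvd_iff_zpow_eq_one.2 (by rw [zpow_sub, hki, mul_inv_cancel])
  have e3 : (p : ℤ) ∣ (j : ℤ) - 1 := by
    have := dvd_sub e1 e2
    rwa [sub_sub_sub_cancel_left] at this
  have := Int.le_of_dvd (by omega) e3
  omega

include hsup hcK hexp in
theorem two_element_mem {r : G} (hr : r ∈ π.ker) {n : ℕ} (hn : r ^ (2 ^ n) = 1) : r ∈ K := by
  induction n generalizing r with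
  | zero => rw [pow_zero, pow_one] at hn; rw [hn]; exact one_mem K
  | succ n ih =>
    have hr2 : r * r ∈ K := ih (mul_mem hr hr) (by rw [← sq, ← pow_mul, mul_comm, ← pow_succ]; exact hn)
    set C := π.ker ⊓ K with hC
    haveI hCn : C.Normal := ⟨fun c hc g => by
      rw [(central_inf π hπ hsup hcK hc.1 hc.2 g).eq, mul_inv_cancel_right]; exact hc⟩
    let q := QuotientGroup.mk' C
    obtain ⟨ab, bb, yb, hao, hbo, habc, hne, hy, hy'⟩ := witness_four
    obtain ⟨a, ha, rfl⟩ := (hsup ▸ mem_top ab : ab ∈ K.map π)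
    obtain ⟨b, hb, rfl⟩ := (hsup ▸ mem_top bb : bb ∈ K.map π)
    obtain ⟨y, hyK, rfl⟩ := (hsup ▸ mem_top yb : yb ∈ K.map π)
    have hq : ∀ t ∈ K, π t = 1 → q t = 1 := fun t htK ht => (QuotientGroup.eq_one_iff _).2 ⟨ht, htK⟩
    have haa : π a * π a = 1 := CfsgLib.Involutions.invol_mul_self hao
    have hbb : π b * π b = 1 := CfsgLib.Involutions.invol_mul_self hbo
    have hra : Commute r a := hcK a ha r hr
    have hrb : Commute r b := hcK b hb r hr
    have hA2 : q (a * r) * q (a * r) = 1 := by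
      rw [← map_mul, hra.mul_mul_mul_comm, map_mul, hq _ (mul_mem ha ha) (by rw [map_mul, haa]), one_mul]
      exact (QuotientGroup.eq_one_iff _).2 ⟨mul_mem hr hr, hr2⟩
    have hB2 : q b * q b = 1 := by rw [← map_mul]; exact hq _ (mul_mem hb hb) (by rw [map_mul, hbb])
    have hAB : Commute (q (a * r)) (q b) := by
      have h1 : q (a * b * (b * a)⁻¹) = 1 := hq _ (mul_mem (mul_mem ha hb) (inv_mem (mul_mem hb ha)))
        (by rw [map_mul, map_inv, map_mul, map_mul, habc.eq, mul_inv_cancel])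
      rw [map_mul q (a * b), map_inv, mul_inv_eq_one, map_mul, map_mul] at h1
      rw [map_mul]
      exact (show Commute (q a) (q b) from h1).mul_left (hrb.map q)
    have hπq : ∀ u v : G, q u = q v → π u = π v := fun u v e => by
      have h1 : u⁻¹ * v ∈ C := QuotientGroup.eq.1 e
      have h2 : π (u⁻¹ * v) = 1 := h1.1
      rw [map_mul, map_inv, inv_mul_eq_one] at h2
      exact h2
    have hπar : π (a * r) = π a := by rw [map_mul, MonoidHom.mem_ker.1 hr, mul_one]
    have hAne : q (a * r) ≠ 1 := fun e => by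
      have h1 := hπq (a * r) 1 (by rw [e, map_one])
      rw [hπar, map_one] at h1
      exact CfsgLib.Involutions.invol_ne_one hao h1
    have hBne : q b ≠ 1 := fun e => by
      have h1 := hπq b 1 (by rw [e, map_one])
      rw [map_one] at h1
      exact CfsgLib.Involutions.invol_ne_one hbo h1
    have hABne : q (a * r) ≠ q b := fun e => hne (by rw [← hπar]; exact hπq _ _ e)
    haveI := Fact.mk Nat.prime_two
    have F : CfsgLib.DGroup.Four (q (a * r)) (q b) :=
      ⟨orderOf_eq_prime (by rw [sq]; exact hA2) hAne, orderOf_eq_prime (by rw [sq]; exact hB2) hBne, hAB, hABne⟩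
    set H := F.grp.comap q with hH
    have hHp : IsPGroup 2 H := fun ⟨t, ht⟩ => by
      refine ⟨2, Subtype.ext ?_⟩
      show t ^ (2 ^ 2) = 1
      have h1 : t * t ∈ C := (QuotientGroup.eq_one_iff _).1 (show q (t * t) = 1 by rw [map_mul]; exact F.mul_self ht)
      rw [show (2 : ℕ) ^ 2 = 2 * 2 by norm_num, pow_mul, sq, sq]
      exact hexp _ h1.1 h1.2
    have hmemA : a * r ∈ H := F.z_mem
    have hmemB : b ∈ H := F.u_mem
    have hneb : H.map π ≠ ⊥ := fun e =>
      CfsgLib.Involutions.invol_ne_one hbo (mem_bot.1 (e ▸ ⟨b, hmemB, rfl⟩))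
    have hHimg : ∀ t ∈ H, π t = 1 ∨ π t = π a ∨ π t = π b ∨ π t = π a * π b := by
      intro t ht
      rcases ht with e | e | e | e
      · left; rw [hπq t 1 (by rw [map_one]; exact e), map_one]
      · right; left; rw [hπq t _ e, hπar]
      · right; right; left; exact hπq t _ e
      · right; right; right; rw [hπq t (a * r * b) (by rw [map_mul]; exact e), map_mul, hπar]
    have hyN : π y ∈ normalizer ((H.map π : Subgroup L13) : Set L13) := by
      refine mem_normalizer_of_forall ?_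
      rintro _ ⟨t, ht, rfl⟩
      have ma : π a ∈ H.map π := ⟨a * r, hmemA, hπar⟩
      have mb : π b ∈ H.map π := ⟨b, hmemB, rfl⟩
      rcases hHimg t ht with e | e | e | e <;> rw [e]
      · rw [mul_one, mul_inv_cancel]; exact one_mem _
      · rw [hy]; exact mb
      · rw [hy']; exact mul_mem ma mb
      · rw [← conj_mul, hy, hy']; exact mul_mem mb (mul_mem ma mb)
    have hyH := conj_mem_of_mem_normalizer
      ((ker_le_norm π hπ h (small_of_isPGroup Nat.prime_two hHp) hneb).2 y hyN) hmemA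
    set t := y * a * y⁻¹ with ht
    have htK : t ∈ K := mul_mem (mul_mem hyK ha) (inv_mem hyK)
    have hπt : π t = π b := by rw [ht, map_mul, map_mul, map_inv, hy]
    have e1 : y * (a * r) * y⁻¹ = t * r := by
      rw [ht, show y * (a * r) * y⁻¹ = y * a * y⁻¹ * (y * r * y⁻¹) by group, ← (hcK y hyK r hr).eq,
        mul_inv_cancel_right]
    rw [e1] at hyH
    have hπtr : π (t * r) = π b := by rw [map_mul, MonoidHom.mem_ker.1 hr, mul_one, hπt]
    have hqe : q (t * r) = q b := by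
      rcases hyH with e | e | e | e
      · exact absurd (hπtr.symm.trans ((hπq _ 1 (by rw [map_one]; exact e)).trans (map_one π)))
          (CfsgLib.Involutions.invol_ne_one hbo)
      · exact absurd ((hπq _ _ e).symm.trans hπtr) (by rw [hπar]; exact hne)
      · exact e
      · exfalso
        have h1 := hπq (t * r) (a * r * b) (by rw [map_mul q (a * r) b]; exact e)
        rw [hπtr, map_mul, hπar, eq_comm, mul_eq_right] at h1
        exact CfsgLib.Involutions.invol_ne_one hao h1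
    have h2 : b⁻¹ * (t * r) ∈ C := QuotientGroup.eq.1 hqe.symm
    have h3 := mul_mem (inv_mem htK) (mul_mem hb h2.2)
    simpa using h3

end CfsgLib.Recog.MaxNorm
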