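import Cfsg.Agent.Lib.Recog.MaxNorm.Lift

/-!
Nonsolvable groups in which small non-subnormal subgroups have maximal normalisers.
-/

set_option autoImplicit false
set_option linter.unusedSectionVars false
set_option linter.style.haveILetI false

namespace CfsgLib.Recog.MaxNorm

open Subgroup

local notation "L13" => Matrix.ProjectiveSpecialLinearGroup (Fin 2) (ZMod 13)
local notation "SL13" => Matrix.SpecialLinearGroup (Fin 2) (ZMod 13)

/-- The field with thirteen elements. -/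
local instance fact_thirteen_main : Fact (Nat.Prime 13) := ⟨by norm_num⟩

universe u

variable {G : Type u} [Group G] [Finite G]

/-- A subgroup containing all elements of prime power order of `R` contains `R`. -/
theorem le_of_primary {R M : Subgroup G}
    (h : ∀ p : ℕ, p.Prime → ∀ r ∈ R, (∃ n, r ^ (p ^ n) = 1) → r ∈ M) : R ≤ M := by
  rw [← subgroupOf_eq_top, ← index_eq_one]
  by_contra hne
  obtain ⟨p, hp, hd⟩ := Nat.exists_prime_and_dvd hne
  haveI := Fact.mk hp
  obtain ⟨P⟩ : Nonempty (Sylow p R) := inferInstance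
  have hle : (P : Subgroup R) ≤ M.subgroupOf R := fun r hr => by
    obtain ⟨n, hn⟩ := P.isPGroup' ⟨r, hr⟩
    exact h p hp r r.2 ⟨n, congrArg (fun t : (P : Subgroup R) => ((t : R) : G)) hn⟩
  exact P.not_dvd_index (hd.trans (index_dvd_of_le hle))

theorem prime_cases_of_dvd {q : ℕ} (hq : q.Prime) (hd : q ∣ 2184) :
    q = 2 ∨ q = 3 ∨ q = 7 ∨ q = 13 := by
  rw [show (2184 : ℕ) = 2 ^ 3 * 3 * 7 * 13 by norm_num] at hd
  rcases hq.dvd_mul.1 hd with h | h
  · rcases hq.dvd_mul.1 h with h | h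
    · rcases hq.dvd_mul.1 h with h | h
      · exact Or.inl ((Nat.prime_dvd_prime_iff_eq hq Nat.prime_two).1 (hq.dvd_of_dvd_pow h))
      · exact Or.inr (Or.inl ((Nat.prime_dvd_prime_iff_eq hq Nat.prime_three).1 h))
    · exact Or.inr (Or.inr (Or.inl ((Nat.prime_dvd_prime_iff_eq hq (by norm_num)).1 h)))
  · exact Or.inr (Or.inr (Or.inr ((Nat.prime_dvd_prime_iff_eq hq (by norm_num)).1 h)))

/-- The structure over a quotient isomorphic to `PSL₂(13)`. -/
theorem structure_of_quotient (h : MaxNormSub G) (π : G →* L13) (hπ : Function.Surjective π) :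
    ∃ K S : Subgroup G, K.Normal ∧ S.Normal ∧ K ⊓ S = ⊥ ∧ K ⊔ S = ⊤ ∧
      (Nonempty (K ≃* L13) ∨ Nonempty (K ≃* SL13)) ∧
      IsMulCommutative S ∧ (Nat.card K).Coprime (Nat.card S) := by
  obtain ⟨K, hKn, hsup, hperf, hleast⟩ := exists_least π hπ h
  have hcK : ∀ k ∈ K, ∀ r ∈ π.ker, Commute r k := fun k hk r hr => commute_ker π hπ h hleast hk hr
  have hξsurj : Function.Surjective (π.comp K.subtype) := fun x => by
    obtain ⟨k, hk, hkx⟩ := (hsup ▸ mem_top x : x ∈ K.map π)
    exact ⟨⟨k, hk⟩, hkx⟩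
  have hξc : (π.comp K.subtype).ker ≤ center K := fun t ht =>
    mem_center_iff.2 fun g => Subtype.ext (hcK g g.2 t ht).symm.eq
  have hiso := perfect_cover_thirteen (π.comp K.subtype) hξsurj hξc hperf
  have hcard : Nat.card K ∣ 2184 ∧ Nat.card (π.comp K.subtype).ker ∣ 2 := by
    have h1 := (π.comp K.subtype).ker.index_mul_card
    rw [index_ker, MonoidHom.range_eq_top.2 hξsurj, card_top, card_L13] at h1
    rcases hiso with ⟨⟨e⟩⟩ | ⟨⟨e⟩⟩
    · rw [Nat.card_congr e.toEquiv, card_L13] at h1 ⊢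
      exact ⟨by norm_num, by rw [show Nat.card (π.comp K.subtype).ker = 1 by omega]; norm_num⟩
    · rw [Nat.card_congr e.toEquiv, card_SL13] at h1 ⊢
      exact ⟨dvd_rfl, by rw [show Nat.card (π.comp K.subtype).ker = 2 by omega]⟩
  have hexp : ∀ t ∈ π.ker, t ∈ K → t * t = 1 := fun t ht htK => by
    have h1 : orderOf (⟨⟨t, htK⟩, ht⟩ : (π.comp K.subtype).ker) ∣ 2 :=
      (_root_.orderOf_dvd_natCard _).trans hcard.2
    have h2 := orderOf_dvd_iff_pow_eq_one.1 h1
    rw [← sq]
    exact congrArg (fun s : (π.comp K.subtype).ker => ((s : K) : G)) h2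
  -- an element of order thirteen in `K`
  obtain ⟨xb, -, -, hxb, -, -, -⟩ := witness_odd (p := 13) (Or.inr (Or.inr rfl))
  obtain ⟨k, hk, hkx, hk13⟩ := exists_lift_order π hπ hsup hexp (by norm_num) (by norm_num) hxb
  let Pr : Set G := {s | s ∈ π.ker ∧ ∃ p n : ℕ, p.Prime ∧ p ≠ 2 ∧ s ^ (p ^ n) = 1}
  have hno : ∀ s ∈ π.ker, ∀ p n : ℕ, p = 3 ∨ p = 7 ∨ p = 13 → s ^ (p ^ n) = 1 → s = 1 := by
    intro s hs p n hp
    induction n generalizing s with
    | zero => intro h1; simpa using h1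
    | succ n ih =>
      intro h1
      refine no_odd_element π hπ h hsup hcK hexp hp hs (ih _ (pow_mem hs p) ?_)
      rw [← pow_mul, ← pow_succ']; exact h1
  have hnorm : ∀ s ∈ Pr, ∀ t ∈ π.ker, t * s * t⁻¹ ∈ zpowers s := by
    rintro s ⟨hs, p, n, hp, hp2, hsp⟩ t ht
    by_cases hp13 : p = 13
    · rw [hno s hs p n (Or.inr (Or.inr hp13)) hsp, mul_one, mul_inv_cancel]
      exact one_mem _
    have hks : Commute k s := (hcK k hk s hs).symm
    have hord : orderOf (k * s) ∣ 13 * p ^ n := orderOf_dvd_of_pow_eq_one (by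
      rw [hks.mul_pow, pow_mul, hk13, one_pow, one_mul, mul_comm, pow_mul, hsp, one_pow])
    have hsmall : Small (Nat.card (zpowers (k * s))) := by
      rw [Nat.card_zpowers]
      exact small_of_dvd (by simpa using small_pow_mul_pow (by norm_num : (13 : ℕ).Prime) hp 1 n) hord
    have hne : (zpowers (k * s)).map π ≠ ⊥ := by
      rw [MonoidHom.map_zpowers, map_mul, MonoidHom.mem_ker.1 hs, mul_one, hkx]
      exact Rigid.zpowers_ne_bot' (by norm_num) hxb
    obtain ⟨i, hi⟩ := mem_normalizer_zpowers.1 ((ker_le_norm π hπ h hsmall hne).1 ht)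
    have hi' : (k * s) ^ i = t * (k * s) * t⁻¹ := hi
    rw [hks.mul_zpow, show t * (k * s) * t⁻¹ = t * k * t⁻¹ * (t * s * t⁻¹) by group,
      show t * k * t⁻¹ = k by rw [(hcK k hk t ht).eq, mul_inv_cancel_right]] at hi'
    have hkey : k⁻¹ * k ^ i = t * s * t⁻¹ * (s ^ i)⁻¹ := by
      rw [eq_mul_inv_iff_mul_eq, mul_assoc, hi', inv_mul_cancel_left]
    have hc0 : k⁻¹ * k ^ i = 1 := by
      have hker : k⁻¹ * k ^ i ∈ π.ker := by
        rw [hkey]
        exact mul_mem (mul_mem (mul_mem ht hs) (inv_mem ht)) (inv_mem (zpow_mem hs i))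
      refine orderOf_eq_one_iff.1 (Nat.eq_one_of_dvd_coprimes (by norm_num : Nat.Coprime 2 13)
        (orderOf_dvd_of_pow_eq_one (by rw [sq]; exact hexp _ hker (mul_mem (inv_mem hk) (zpow_mem hk i)))) ?_)
      refine (orderOf_dvd_of_mem_zpowers (x := k) (mul_mem (inv_mem (mem_zpowers k)) (zpow_mem (mem_zpowers k) i))).trans ?_
      exact orderOf_dvd_of_pow_eq_one hk13
    rw [hc0] at hkey
    exact ⟨i, (mul_inv_eq_one.1 hkey.symm).symm⟩
  have hsame : ∀ p : ℕ, p.Prime → p ≠ 2 → ∀ s t : G, s ∈ π.ker → t ∈ π.ker →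
      (∃ n, s ^ (p ^ n) = 1) → (∃ n, t ^ (p ^ n) = 1) → Commute s t := by
    intro p hp hp2 s t hs ht hsn htn
    haveI := Fact.mk hp
    obtain ⟨P⟩ : Nonempty (Sylow p π.ker) := inferInstance
    have hmem : ∀ v : π.ker, (∃ n, (v : G) ^ (p ^ n) = 1) → v ∈ (P : Subgroup π.ker) := by
      rintro v ⟨n, hn⟩
      haveI : (zpowers v).Normal := ⟨fun w hw r => by
        obtain ⟨i, rfl⟩ := hw
        obtain ⟨l, hl⟩ := hnorm v ⟨v.2, p, n, hp, hp2, hn⟩ r r.2
        have hl' : (v : G) ^ l = (r : G) * v * (r : G)⁻¹ := hl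
        refine ⟨l * i, Subtype.ext ?_⟩
        show ((v ^ (l * i) : π.ker) : G) = (r : G) * ((v ^ i : π.ker) : G) * (r : G)⁻¹
        rw [Subgroup.coe_zpow, Subgroup.coe_zpow, ← conj_zpow, ← hl', ← zpow_mul]⟩
      have hv : IsPGroup p (zpowers v) := by
        obtain ⟨m, -, hm⟩ := (Nat.dvd_prime_pow hp).1 (orderOf_dvd_of_pow_eq_one hn)
        exact IsPGroup.of_card (n := m) (by rw [Nat.card_zpowers, ← orderOf_coe]; exact hm)
      exact (P.is_maximal' (P.isPGroup'.to_sup_of_normal_right hv) le_sup_left) ▸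
        le_sup_right (a := (P : Subgroup π.ker)) (mem_zpowers v)
    have hPn : ∀ H : Subgroup (P : Subgroup π.ker), H.Normal := fun H => ⟨fun v hv g => by
      obtain ⟨m, hm⟩ := P.isPGroup' v
      obtain ⟨l, hl⟩ := hnorm ((v : π.ker) : G)
        ⟨(v : π.ker).2, p, m, hp, hp2, congrArg (fun w : (P : Subgroup π.ker) => ((w : π.ker) : G)) hm⟩
        ((g : π.ker) : G) (g : π.ker).2
      have hl' : ((v : π.ker) : G) ^ l = ((g : π.ker) : G) * ((v : π.ker) : G) * (((g : π.ker) : G))⁻¹ := hl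
      rw [show g * v * g⁻¹ = v ^ l from Subtype.ext (Subtype.ext (by simpa using hl'.symm))]
      exact zpow_mem hv l⟩
    have hPc : ∀ a b : (P : Subgroup π.ker), a * b = b * a := by
      by_contra hcon
      push Not at hcon
      obtain ⟨a, b, -, ho, -, -⟩ := FgsC.Hamiltonian.exists_quaternion_pair hPn hcon
      obtain ⟨m, hm⟩ := P.isPGroup' a
      have h1 := orderOf_dvd_of_pow_eq_one hm
      rw [ho] at h1
      exact hp2 ((Nat.prime_dvd_prime_iff_eq Nat.prime_two hp).1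
        (Nat.prime_two.dvd_of_dvd_pow ((by norm_num : 2 ∣ 4).trans h1))).symm
    exact congrArg (fun w : (P : Subgroup π.ker) => ((w : π.ker) : G))
      (hPc ⟨⟨s, hs⟩, hmem _ hsn⟩ ⟨⟨t, ht⟩, hmem _ htn⟩)
  have hcomm : ∀ s ∈ Pr, ∀ t ∈ Pr, Commute s t := by
    rintro s hsP t htP
    obtain ⟨hs, p, n, hp, hp2, hsp⟩ := hsP
    obtain ⟨ht, q, m, hq, hq2, htq⟩ := htP
    by_cases hpq : p = q
    · subst hpq; exact hsame p hp hp2 s t hs ht ⟨n, hsp⟩ ⟨m, htq⟩
    · have h1 : s * t * s⁻¹ * t⁻¹ ∈ zpowers t :=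
        mul_mem (hnorm t ⟨ht, q, m, hq, hq2, htq⟩ s hs) (inv_mem (mem_zpowers t))
      have h2 : s * t * s⁻¹ * t⁻¹ ∈ zpowers s := by
        have := mul_mem (mem_zpowers s) (inv_mem (hnorm s ⟨hs, p, n, hp, hp2, hsp⟩ t ht))
        simpa [mul_assoc] using this
      exact mul_inv_eq_iff_eq_mul.1 (mul_inv_eq_one.1 (eq_one_of_mem_zpowers_of_coprime
        ((((Nat.coprime_primes hp hq).2 hpq).pow n m).coprime_dvd_left (orderOf_dvd_of_pow_eq_one hsp)
          |>.coprime_dvd_right (orderOf_dvd_of_pow_eq_one htq)) h2 h1))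
  set S := closure Pr with hS
  have hSR : S ≤ π.ker := (closure_le _).2 fun s hs => hs.1
  have hScomm : IsMulCommutative S := isMulCommutative_closure fun s hs t ht => hcomm s hs t ht
  have hSodd : ∀ s ∈ S, Odd (orderOf s) := by
    intro s hs
    induction hs using closure_induction with
    | mem s hs =>
      obtain ⟨-, p, n, hp, hp2, hsp⟩ := hs
      exact (hp.odd_of_ne_two hp2).pow.of_dvd_nat (orderOf_dvd_of_pow_eq_one hsp)
    | one => simp
    | mul a b ha hb iha ihb =>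
      exact (iha.mul ihb).of_dvd_nat ((show Commute a b from
        congrArg Subtype.val (hScomm.is_comm.comm ⟨a, ha⟩ ⟨b, hb⟩)).orderOf_mul_dvd_mul_orderOf)
    | inv a _ iha => rwa [orderOf_inv]
  haveI hSn : S.Normal := by
    refine ⟨fun a ha g => ?_⟩
    have hsub : S ≤ S.comap (MulAut.conj g).toMonoidHom := by
      refine (closure_le _).2 ?_
      rintro s ⟨hs, p, n, hp, hp2, hsp⟩
      refine subset_closure ⟨(inferInstance : π.ker.Normal).conj_mem s hs g, p, n, hp, hp2, ?_⟩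
      show (g * s * g⁻¹) ^ (p ^ n) = 1
      rw [conj_pow, hsp, mul_one, mul_inv_cancel]
    exact hsub ha
  refine ⟨K, S, hKn, hSn, ?_, ?_, hiso, hScomm, ?_⟩
  · refine eq_bot_iff.2 fun t ht => mem_bot.2 (orderOf_eq_one_iff.1 ?_)
    exact Nat.eq_one_of_dvd_coprimes (Nat.coprime_two_left.2 (hSodd t ht.2))
      (orderOf_dvd_of_pow_eq_one (by rw [sq]; exact hexp t (hSR ht.2) ht.1)) dvd_rfl
  · have hR : π.ker ≤ K ⊔ S := le_of_primary fun p hp r hr ⟨n, hn⟩ => by
      by_cases hp2 : p = 2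
      · subst hp2
        exact le_sup_left (b := S) (two_element_mem π hπ h hsup hcK hexp hr hn)
      · exact le_sup_right (a := K) (subset_closure ⟨hr, p, n, hp, hp2, hn⟩)
    refine top_unique fun g _ => ?_
    obtain ⟨a, ha, r, hr, rfl⟩ := exists_decomp π hπ hsup g
    exact mul_mem (le_sup_left (b := S) ha) (hR hr)
  · refine Nat.coprime_of_dvd fun q hq hqK hqS => ?_
    haveI := Fact.mk hq
    obtain ⟨⟨s, hs⟩, ho⟩ := exists_prime_orderOf_dvd_card' q (G := S) hqS
    rw [orderOf_mk] at ho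
    rcases prime_cases_of_dvd hq (hqK.trans hcard.1) with rfl | hq'
    · have h1 := hSodd s hs
      rw [ho] at h1
      exact absurd h1 (by decide)
    · have h1 : s = 1 := hno s (hSR hs) q 1 hq' (by rw [pow_one, ← ho]; exact pow_orderOf_eq_one s)
      rw [h1, orderOf_one] at ho
      exact hq.ne_one ho.symm

/-- The main theorem. -/
theorem main (hG : ¬ Group.IsSolvable G) (h : MaxNormSub G) :
    ∃ K S : Subgroup G, K.Normal ∧ S.Normal ∧ K ⊓ S = ⊥ ∧ K ⊔ S = ⊤ ∧
      (Nonempty (K ≃* L13) ∨ Nonempty (K ≃* SL13)) ∧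
      IsMulCommutative S ∧ (Nat.card K).Coprime (Nat.card S) := by
  obtain ⟨R, hRn, hRs, hR⟩ := exists_radical G
  set q := QuotientGroup.mk' R
  have hq : Function.Surjective q := QuotientGroup.mk'_surjective R
  have h0 : ∀ N : Subgroup (G ⧸ R), N.Normal → Group.IsSolvable N → N = ⊥ := by
    intro N hN hNs
    haveI := hN
    haveI := hNs
    haveI := hRs
    haveI : (N.comap q).Normal := hN.comap q
    let f : N.comap q →* N := (q.comp (N.comap q).subtype).codRestrict N fun v => v.2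
    have hs : Group.IsSolvable (N.comap q) := by
      let i : R →* N.comap q := Subgroup.inclusion (fun r hr => by
        show q r ∈ N
        rw [show q r = 1 from (QuotientGroup.eq_one_iff r).2 hr]
        exact one_mem N)
      refine Group.isSolvable_of_ker_le_range i f fun v hv => ?_
      have hv' : q v = 1 := congrArg Subtype.val hv
      exact ⟨⟨v, (QuotientGroup.eq_one_iff _).1 hv'⟩, Subtype.ext rfl⟩
    refine eq_bot_iff.2 fun v hv => mem_bot.2 ?_
    obtain ⟨g, rfl⟩ := hq v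
    exact (QuotientGroup.eq_one_iff g).2 (hR _ inferInstance hs hv)
  haveI : Nontrivial (G ⧸ R) := by
    refine QuotientGroup.nontrivial_iff.2 fun e => hG ?_
    haveI : Group.IsSolvable (⊤ : Subgroup G) := e ▸ hRs
    exact Group.isSolvable_of_surjective (f := (Subgroup.topEquiv (G := G)).toMonoidHom)
      (Subgroup.topEquiv (G := G)).surjective
  obtain ⟨e⟩ := iso_thirteen_of_radical_free (maxNormSub_quotient q h hq) h0
  exact structure_of_quotient h (e.toMonoidHom.comp q) (e.surjective.comp hq)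

end CfsgLib.Recog.MaxNorm
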