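import Cfsg.Agent.Lib.Recog.MaxNorm.Cases
import Cfsg.Agent.Lib.KnownB.PSLAut.Out

/-!
Almost simple groups with maximal normalisers are simple.
-/

set_option autoImplicit false
set_option linter.unusedSectionVars false
set_option linter.style.haveILetI false

namespace CfsgLib.Recog.MaxNorm

open Subgroup

/-- Nontrivial small subgroups have maximal normalisers. -/
def MaxNorm (G : Type*) [Group G] : Prop :=
  ∀ H : Subgroup G, Small (Nat.card H) → H ≠ ⊥ → IsCoatom (normalizer (H : Set G))

variable {G : Type*} [Group G] [Finite G]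

theorem rigid_of_maxNorm (hM : MaxNorm G) (T : Subgroup G) [T.Normal] : Rigid T := by
  intro H K hH hK h1 h2 hs
  have card : ∀ L : Subgroup T, Nat.card (L.map T.subtype) = Nat.card L := fun L =>
    card_map_of_injective T.subtype_injective
  have ne : ∀ L : Subgroup T, L ≠ ⊥ → L.map T.subtype ≠ ⊥ := fun L hL e =>
    hL ((map_eq_bot_iff_of_injective L T.subtype_injective).1 e)
  have hHm := hM (H.map T.subtype) (by rw [card]; exact hH) (ne H h1)
  have hKm := hM (K.map T.subtype) (by rw [card]; exact hK) (ne K h2)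
  have hle : normalizer ((H.map T.subtype : Subgroup G) : Set G) ≤
      normalizer ((K.map T.subtype : Subgroup G) : Set G) := by
    intro g hg
    refine mem_normalizer_of_forall ?_
    rintro _ ⟨v, hv, rfl⟩
    have h := hs (MulAut.conjNormal g) (fun w hw => ?_) v hv
    · exact ⟨MulAut.conjNormal g v, h, by simp⟩
    · obtain ⟨w', hw', he⟩ := conj_mem_of_mem_normalizer hg ⟨w, hw, rfl⟩
      have : MulAut.conjNormal g w = w' := Subtype.ext (by simpa using he.symm)
      rw [this]; exact hw'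
  have heq : normalizer ((H.map T.subtype : Subgroup G) : Set G) =
      normalizer ((K.map T.subtype : Subgroup G) : Set G) :=
    (hHm.le_iff.1 hle).resolve_left hKm.ne_top |>.symm
  intro g hg
  have hg' : (g : G) ∈ normalizer ((H.map T.subtype : Subgroup G) : Set G) := by
    rw [heq]
    refine mem_normalizer_of_forall ?_
    rintro _ ⟨v, hv, rfl⟩
    exact ⟨g * v * g⁻¹, conj_mem_of_mem_normalizer hg hv, by simp⟩
  refine mem_normalizer_of_forall fun v hv => ?_
  obtain ⟨w, hw, he⟩ := conj_mem_of_mem_normalizer hg' ⟨v, hv, rfl⟩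
  have : g * v * g⁻¹ = w := Subtype.ext (by simpa using he.symm)
  rw [this]; exact hw

theorem false_of_outer_witness (hM : MaxNorm G) (T : Subgroup G) [T.Normal] {z s a : G} (hzT : z ∈ T)
    (hsT : s ∉ T) (hzz : z * z = 1) (hz1 : z ≠ 1) (hss : s * s = 1) (hzs : Commute z s)
    (ha : Commute a z) (h1 : a * s * a⁻¹ ≠ s) (h2 : a * s * a⁻¹ ≠ z * s) (hzc : z ∉ center G) : False := by
  let V : Subgroup G :=
    { carrier := {g | g = 1 ∨ g = z ∨ g = s ∨ g = z * s}
      one_mem' := Or.inl rfl
      mul_mem' := by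
        have e1 : z * (z * s) = s := by rw [← mul_assoc, hzz, one_mul]
        have e2 : s * z = z * s := hzs.eq.symm
        have e3 : z * s * z = s := by rw [mul_assoc, e2, e1]
        have e4 : z * s * s = z := by rw [mul_assoc, hss, mul_one]
        have e5 : s * (z * s) = z := by rw [← mul_assoc, e2, e4]
        have e6 : z * s * (z * s) = 1 := by rw [mul_assoc, e5, hzz]
        rintro a b (rfl | rfl | rfl | rfl) (rfl | rfl | rfl | rfl) <;>
          simp [hzz, hss, e1, e2, e3, e4, e5, e6]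
      inv_mem' := by
        rintro a (rfl | rfl | rfl | rfl)
        · simp
        · right; left; exact inv_eq_of_mul_eq_one_right hzz
        · right; right; left; exact inv_eq_of_mul_eq_one_right hss
        · right; right; right
          rw [mul_inv_rev, inv_eq_of_mul_eq_one_right hzz, inv_eq_of_mul_eq_one_right hss]
          exact hzs.eq.symm }
  have hp : IsPGroup 2 V := by
    rintro ⟨g, hg⟩
    refine ⟨1, Subtype.ext ?_⟩
    show g ^ (2 ^ 1) = 1
    rw [pow_one, sq]
    rcases hg with rfl | rfl | rfl | rfl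
    · exact one_mul 1
    · exact hzz
    · exact hss
    · rw [hzs.symm.mul_mul_mul_comm, hzz, hss, one_mul]
  have hzV : z ∈ V := Or.inr (Or.inl rfl)
  have hsV : s ∈ V := Or.inr (Or.inr (Or.inl rfl))
  have hco := hM V (small_of_isPGroup Nat.prime_two hp) fun e => hz1 (mem_bot.1 (e ▸ hzV))
  have hle : normalizer (V : Set G) ≤ centralizer {z} := by
    intro m hm
    rw [mem_centralizer_singleton_iff, ← mul_inv_eq_iff_eq_mul]
    have hT : m * z * m⁻¹ ∈ T := Normal.conj_mem inferInstance z hzT m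
    rcases conj_mem_of_mem_normalizer hm hzV with e | e | e | e
    · exact absurd (conj_eq_one_iff.1 e) hz1
    · exact e
    · exact absurd (e ▸ hT) hsT
    · exact absurd ((T.mul_mem_cancel_left hzT).1 (e ▸ hT)) hsT
  have hne : centralizer ({z} : Set G) ≠ ⊤ := fun e => hzc (mem_center_iff.2 fun g =>
    mem_centralizer_singleton_iff.1 (e ▸ mem_top g))
  have heq := (hco.le_iff.1 hle).resolve_left hne
  have haN : a ∈ normalizer (V : Set G) := heq ▸ mem_centralizer_singleton_iff.2 ha.eq
  rcases conj_mem_of_mem_normalizer haN hsV with e | e | e | e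
  · exact hsT (by rw [conj_eq_one_iff.1 e]; exact one_mem T)
  · have h4 : a * s * a⁻¹ = a * z * a⁻¹ := by rw [e, ha.eq, mul_inv_cancel_right]
    exact hsT ((mul_left_cancel (mul_right_cancel h4)) ▸ hzT)
  · exact h1 e
  · exact h2 e

section Concrete

open CfsgLib.KnownB.PSLAut Matrix

/-- Matrices producing an outer four-group with a small normaliser. -/
structure Witness (p : ℕ) (Z S A : Matrix (Fin 2) (Fin 2) (ZMod p)) : Prop where
  detZ : Z.det = 1
  detA : A.det ≠ 0
  detS : ∀ u : ZMod p, u * u ≠ S.det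
  notscalar : ∀ c : ZMod p, Z ≠ c • 1
  sqZ : ∃ c : ZMod p, Z * Z = c • 1
  sqS : ∃ c : ZMod p, S * S = c • 1
  commZS : ∃ c : ZMod p, Z * S = c • (S * Z)
  commAZ : ∃ c : ZMod p, A * Z = c • (Z * A)
  ne1 : ∀ c : ZMod p, A * S ≠ c • (S * A)
  ne2 : ∀ c : ZMod p, A * S ≠ c • (Z * S * A)

theorem δ_eq_of_smul {F : Type*} [Field F] {g h : GL (Fin 2) F} {c : F}
    (e : (g : Matrix (Fin 2) (Fin 2) F) = c • (h : Matrix (Fin 2) (Fin 2) F)) : δ g = δ h := by
  have hc : c ≠ 0 := fun h0 => by
    rw [h0, zero_smul] at e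
    have := g.ne_zero
    exact this e
  have hk : h⁻¹ * g ∈ (δ : GL (Fin 2) F →* MulAut (ProjectiveSpecialLinearGroup (Fin 2) F)).ker := by
    rw [ker_δ le_rfl, mem_center_iff_scalar]
    refine ⟨Units.mk0 c hc, Units.ext ?_⟩
    rw [Units.val_mul, e, mul_smul_comm, Units.inv_mul]
    simp [Matrix.smul_one_eq_diagonal]
  rw [MonoidHom.mem_ker, map_mul, map_inv, inv_mul_eq_one] at hk
  exact hk.symm

theorem exists_smul_of_δ_eq {F : Type*} [Field F] {g h : GL (Fin 2) F} (e : δ g = δ h) :
    ∃ c : F, (g : Matrix (Fin 2) (Fin 2) F) = c • (h : Matrix (Fin 2) (Fin 2) F) := by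
  have hk : h⁻¹ * g ∈ (δ : GL (Fin 2) F →* MulAut (ProjectiveSpecialLinearGroup (Fin 2) F)).ker := by
    rw [MonoidHom.mem_ker, map_mul, map_inv, e, inv_mul_cancel]
  rw [ker_δ le_rfl, mem_center_iff_scalar] at hk
  obtain ⟨u, hu⟩ := hk
  refine ⟨u, ?_⟩
  rw [← mul_inv_cancel_left h g, ← hu, Units.val_mul]
  ext i j
  simp [Matrix.mul_apply, Fin.sum_univ_two, Matrix.diagonal]
  fin_cases j <;> simp <;> ring

variable {p : ℕ} [Fact p.Prime]

local notation "L" => Matrix.ProjectiveSpecialLinearGroup (Fin 2) (ZMod p)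

theorem card_mulAut_le (hp : p ≠ 2) : Nat.card (MulAut L) ≤ 2 * Nat.card L := by
  have h1 := card_aut_two (F := ZMod p)
  rw [card_gal (p := p) (f := 1) le_rfl (by rw [ZMod.card, pow_one]), one_mul,
    CfsgLib.Classical.card_PGL_eq_card_SL, CfsgLib.Classical.card_SL_two,
    ← CfsgLib.Classical.card_PSL_two_mul] at h1
  rw [h1]
  exact Nat.mul_le_mul_right _ (Nat.gcd_le_left _ two_pos)

theorem eq_top_of_witness {Z S A : Matrix (Fin 2) (Fin 2) (ZMod p)} (W : Witness p Z S A) (hp : p ≠ 2)
    (hM : MaxNorm G) (T : Subgroup G) [T.Normal] (hC : centralizer (T : Set G) = ⊥) (e : T ≃* L) :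
    T = ⊤ := by
  by_contra hT
  let φ : G →* MulAut L := (MulAut.congr e).toMonoidHom.comp MulAut.conjNormal
  have hφ : ∀ t : T, φ (t : G) = MulAut.conj (e t) := fun t => by
    refine MulEquiv.ext fun l => ?_
    show e (MulAut.conjNormal (t : G) (e.symm l)) = e t * l * (e t)⁻¹
    have : MulAut.conjNormal (t : G) (e.symm l) = t * e.symm l * t⁻¹ := Subtype.ext (by simp)
    rw [this, map_mul, map_mul, map_inv, e.apply_symm_apply]
  have hinj : Function.Injective φ := by
    refine (MulAut.congr e).injective.comp ((injective_iff_map_eq_one _).2 fun g hg => ?_)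
    have hg' : g ∈ centralizer (T : Set G) := mem_centralizer_iff.2 fun t ht => by
      have := congrArg Subtype.val (DFunLike.congr_fun hg ⟨t, ht⟩)
      simp at this
      exact (mul_inv_eq_iff_eq_mul.1 this).symm
    rw [hC] at hg'
    exact mem_bot.1 hg'
  have hsurj : Function.Surjective φ := by
    refine (Function.Injective.bijective_of_nat_card_le hinj ?_).2
    refine (card_mulAut_le hp).trans ?_
    rw [← Nat.card_congr e.toEquiv, ← T.index_mul_card]
    refine Nat.mul_le_mul_right _ ?_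
    have h0 := T.index_ne_zero_of_finite
    have h1 : T.index ≠ 1 := fun h => hT (index_eq_one.1 h)
    omega
  have hTiff : ∀ g : G, g ∈ T ↔ φ g ∈ Cfsg.Inn L := by
    intro g
    constructor
    · intro hg
      exact ⟨e ⟨g, hg⟩, (hφ ⟨g, hg⟩).symm⟩
    · rintro ⟨l, hl⟩
      have h := hφ (e.symm l)
      rw [e.apply_symm_apply, hl] at h
      rw [← hinj h]
      exact (e.symm l).2
  have hdS : S.det ≠ 0 := fun h0 => W.detS 0 (by rw [h0, mul_zero])
  let gZ : GL (Fin 2) (ZMod p) := GeneralLinearGroup.mkOfDetNeZero Z (by rw [W.detZ]; exact one_ne_zero)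
  let gS : GL (Fin 2) (ZMod p) := GeneralLinearGroup.mkOfDetNeZero S hdS
  let gA : GL (Fin 2) (ZMod p) := GeneralLinearGroup.mkOfDetNeZero A W.detA
  obtain ⟨z, hz⟩ := hsurj (δ gZ)
  obtain ⟨s, hs⟩ := hsurj (δ gS)
  obtain ⟨a, ha⟩ := hsurj (δ gA)
  have eqv : ∀ {g h : G} {x y : GL (Fin 2) (ZMod p)}, φ g = δ x → φ h = δ y →
      (∃ c : ZMod p, (x : Matrix (Fin 2) (Fin 2) (ZMod p)) = c • (y : Matrix (Fin 2) (Fin 2) (ZMod p))) →
      g = h := fun hg hh ⟨c, hc⟩ => hinj (by rw [hg, hh, δ_eq_of_smul hc])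
  have hone : φ 1 = δ (1 : GL (Fin 2) (ZMod p)) := by rw [map_one, map_one]
  have hzT : z ∈ T := by
    rw [hTiff, hz, δ_mem_inn_iff le_rfl]
    exact ⟨1, Units.ext (by simp [gZ, W.detZ])⟩
  have hsT : s ∉ T := by
    rw [hTiff, hs, δ_mem_inn_iff le_rfl]
    rintro ⟨u, hu⟩
    refine W.detS u ?_
    have := congrArg Units.val hu
    simpa [gS, sq] using this
  have hzz : z * z = 1 := eqv (x := gZ * gZ) (by rw [map_mul, hz, map_mul]) hone (by simpa [gZ] using W.sqZ)
  have hss : s * s = 1 := eqv (x := gS * gS) (by rw [map_mul, hs, map_mul]) hone (by simpa [gS] using W.sqS)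
  have hzs : z * s = s * z := eqv (x := gZ * gS) (y := gS * gZ) (by rw [map_mul, hz, hs, map_mul])
    (by rw [map_mul, hz, hs, map_mul]) (by simpa [gZ, gS] using W.commZS)
  have haz : a * z = z * a := eqv (x := gA * gZ) (y := gZ * gA) (by rw [map_mul, hz, ha, map_mul])
    (by rw [map_mul, hz, ha, map_mul]) (by simpa [gZ, gA] using W.commAZ)
  have hz1 : z ≠ 1 := fun h => by
    have h1 : δ gZ = δ (1 : GL (Fin 2) (ZMod p)) := by rw [← hz, ← hone, h]
    obtain ⟨c, hc⟩ := exists_smul_of_δ_eq h1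
    exact W.notscalar c (by simpa [gZ] using hc)
  refine false_of_outer_witness hM T hzT hsT hzz hz1 hss hzs haz ?_ ?_ ?_
  · intro h
    have h1 : δ (gA * gS) = δ (gS * gA) := by
      rw [map_mul, map_mul, ← ha, ← hs, ← map_mul, ← map_mul, mul_inv_eq_iff_eq_mul.1 h]
    obtain ⟨c, hc⟩ := exists_smul_of_δ_eq h1
    exact W.ne1 c (by simpa [gA, gS] using hc)
  · intro h
    have h1 : δ (gA * gS) = δ (gZ * gS * gA) := by
      rw [map_mul, map_mul, map_mul, ← ha, ← hs, ← hz, ← map_mul, ← map_mul, ← map_mul,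
        mul_inv_eq_iff_eq_mul.1 h]
    obtain ⟨c, hc⟩ := exists_smul_of_δ_eq h1
    exact W.ne2 c (by simpa [gA, gS, gZ] using hc)
  · intro hc
    have : z ∈ centralizer (T : Set G) := mem_centralizer_iff.2 fun t _ => mem_center_iff.1 hc t
    rw [hC] at this
    exact hz1 (mem_bot.1 this)

theorem witness_seven : Witness 7 !![0, 1; -1, 0] !![1, 0; 0, -1] !![1, 2; -2, 1] :=
  ⟨by decide, by decide, by decide, by decide, by decide, by decide, by decide, by decide, by decide,
    by decide⟩

theorem witness_eleven : Witness 11 !![0, 1; -1, 0] !![1, 0; 0, -1] !![1, 2; -2, 1] :=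
  ⟨by decide, by decide, by decide, by decide, by decide, by decide, by decide, by decide, by decide,
    by decide⟩

theorem witness_thirteen : Witness 13 !![5, 0; 0, 8] !![0, 1; 2, 0] !![2, 0; 0, 1] :=
  ⟨by decide, by decide, by decide, by decide, by decide, by decide, by decide, by decide, by decide,
    by decide⟩

end Concrete

end CfsgLib.Recog.MaxNorm
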