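import Cfsg.Agent.Lib.Recog.MaxNorm.SmallPSL
import Cfsg.Agent.Lib.CharApps.Kazarin

/-!
Passing to the quotient by the solvable radical.
-/

set_option autoImplicit false
set_option linter.unusedSectionVars false
set_option linter.style.haveILetI false

namespace CfsgLib.Recog.MaxNorm

open Subgroup

universe u

/-- Small subgroups which are not subnormal have maximal normalisers. -/
def MaxNormSub (G : Type*) [Group G] : Prop :=
  ∀ H : Subgroup G, ¬ H.IsSubnormal → Small (Nat.card H) → IsCoatom (normalizer (H : Set G))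

variable {G : Type u} [Group G] [Finite G]

theorem small_isSolvable {H : Subgroup G} (h : Small (Nat.card H)) : Group.IsSolvable H := by
  obtain ⟨p, q, -, -, hr⟩ := h
  exact CfsgLib.Chars.isSolvable_of_primeFactors_pair p q hr

/-- The greatest solvable normal subgroup. -/
theorem exists_radical (G : Type u) [Group G] [Finite G] :
    ∃ R : Subgroup G, R.Normal ∧ Group.IsSolvable R ∧
      ∀ N : Subgroup G, N.Normal → Group.IsSolvable N → N ≤ R := by
  haveI : Finite (Subgroup G) := Finite.of_injective (fun K => (K : Set G)) SetLike.coe_injective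
  obtain ⟨R, -, hR⟩ := (Set.toFinite {N : Subgroup G | N.Normal ∧ Group.IsSolvable N}).exists_le_maximal
    (a := ⊥) ⟨inferInstance, inferInstance⟩
  refine ⟨R, hR.prop.1, hR.prop.2, fun N hN hNs => ?_⟩
  haveI := hR.prop.1
  haveI := hN
  have h := hR.le_of_ge (y := R ⊔ N)
    ⟨inferInstance, CfsgLib.CharApps.Kazarin.isSolvable_sup R N hR.prop.2 hNs⟩ le_sup_left
  exact le_sup_right.trans h

theorem eq_bot_of_subnormal (h0 : ∀ N : Subgroup G, N.Normal → Group.IsSolvable N → N = ⊥)
    {H : Subgroup G} (hH : H.IsSubnormal) (hs : Group.IsSolvable H) : H = ⊥ := by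
  suffices h : ∀ S : Subgroup G, S ≤ H → H ≤ normalizer (S : Set G) → Group.IsSolvable S → S = ⊥ from
    h H le_rfl le_normalizer hs
  clear hs
  induction hH with
  | top =>
    intro S _ hS hs
    exact h0 S (normalizer_eq_top_iff.1 (top_le_iff.1 hS)) hs
  | step H K hle _ hN ih =>
    rw [normal_subgroupOf_iff_le_normalizer hle] at hN
    obtain ⟨R, hRn, hRs, hR⟩ := exists_radical H
    have hmem : ∀ S : Subgroup G, S ≤ H → H ≤ normalizer (S : Set G) → Group.IsSolvable S →
        S ≤ R.map H.subtype := by
      intro S hSH hS hs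
      haveI : (S.subgroupOf H).Normal := (normal_subgroupOf_iff_le_normalizer hSH).2 hS
      have hs' : Group.IsSolvable (S.subgroupOf H) :=
        haveI := hs
        Group.isSolvable_of_surjective (f := (subgroupOfEquivOfLe hSH).symm.toMonoidHom)
          (subgroupOfEquivOfLe hSH).symm.surjective
      intro s hsS
      exact ⟨⟨s, hSH hsS⟩, hR _ inferInstance hs' hsS, rfl⟩
    have hRH : H ≤ normalizer ((R.map H.subtype : Subgroup G) : Set G) := by
      intro a ha
      refine mem_normalizer_of_forall ?_
      rintro _ ⟨r, hr, rfl⟩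
      exact ⟨⟨a, ha⟩ * r * ⟨a, ha⟩⁻¹, hRn.conj_mem r hr _, by simp⟩
    have hsol : Group.IsSolvable (R.map H.subtype) :=
      haveI := hRs
      Group.isSolvable_of_surjective (f := (R.equivMapOfInjective H.subtype H.subtype_injective).toMonoidHom)
        (R.equivMapOfInjective H.subtype H.subtype_injective).surjective
    have hbot : R.map H.subtype = ⊥ := by
      refine ih _ ((map_subtype_le R).trans hle) (fun k hk => mem_normalizer_of_forall ?_) hsol
      intro v hv
      set R' := R.map H.subtype
      refine hmem (R'.map (MulAut.conj k).toMonoidHom) ?_ ?_ ?_ ⟨v, hv, rfl⟩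
      · rintro _ ⟨w, hw, rfl⟩
        exact conj_mem_of_mem_normalizer (hN hk) (map_subtype_le R hw)
      · intro a ha
        refine mem_normalizer_of_forall ?_
        rintro _ ⟨w, hw, rfl⟩
        have ha' : k⁻¹ * a * k ∈ H := by
          simpa using conj_mem_of_mem_normalizer (inv_mem (hN hk)) ha
        refine ⟨k⁻¹ * a * k * w * (k⁻¹ * a * k)⁻¹, conj_mem_of_mem_normalizer (hRH ha') hw, ?_⟩
        show k * _ * k⁻¹ = a * (k * w * k⁻¹) * a⁻¹
        group
      · haveI := hsol
        exact Group.isSolvable_of_surjective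
          (f := (R'.equivMapOfInjective (MulAut.conj k).toMonoidHom (MulAut.conj k).injective).toMonoidHom)
          (R'.equivMapOfInjective (MulAut.conj k).toMonoidHom (MulAut.conj k).injective).surjective
    intro S hSH hS hs
    exact eq_bot_iff.2 (hbot ▸ hmem S hSH hS hs)

section Quotient

variable {Q : Type*} [Group Q] (π : G →* Q)

/-- A supplement without new prime divisors. -/
theorem exists_lift_primes (hπ : Function.Surjective π) (X : Subgroup Q) :
    ∃ H : Subgroup G, H.map π = X ∧ ∀ r : ℕ, r.Prime → r ∣ Nat.card H → r ∣ Nat.card X := by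
  haveI : Finite (Subgroup G) := Finite.of_injective (fun K => (K : Set G)) SetLike.coe_injective
  obtain ⟨H, -, hH⟩ := (Set.toFinite {H : Subgroup G | H.map π = X}).exists_le_minimal
    (a := X.comap π) (map_comap_eq_self_of_surjective hπ X)
  refine ⟨H, hH.prop, fun r hr hd => ?_⟩
  by_contra hrX
  haveI := Fact.mk hr
  set K := (π.comp H.subtype).ker
  have hsup : ∀ C : Subgroup H, C ⊔ K = ⊤ → C = ⊤ := by
    intro C hC
    have h1 : (C.map H.subtype).map π = X := by
      rw [map_map]
      have h2 := congrArg (Subgroup.map (π.comp H.subtype)) hC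
      rw [Subgroup.map_sup, (map_eq_bot_iff K).2 le_rfl, sup_bot_eq] at h2
      rw [h2, ← MonoidHom.range_eq_map, MonoidHom.range_comp, range_subtype]
      exact hH.prop
    have h3 := hH.le_of_le (y := C.map H.subtype) h1 (map_subtype_le C)
    refine eq_top_iff.2 fun v _ => ?_
    obtain ⟨w, hw, e⟩ := h3 v.2
    rwa [← H.subtype_injective e]
  have hidx : ¬ r ∣ K.index := by
    rw [index_ker, MonoidHom.range_comp, range_subtype, hH.prop]; exact hrX
  obtain ⟨P⟩ : Nonempty (Sylow r K) := inferInstance
  haveI hPn : (P.map K.subtype : Subgroup H).Normal := by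
    rw [← normalizer_eq_top_iff]
    exact hsup _ (Sylow.normalizer_sup_eq_top P)
  set P' := (P.map K.subtype : Subgroup H) with hP'
  have hco : (Nat.card P').Coprime P'.index := by
    obtain ⟨n, hn⟩ := IsPGroup.iff_card.1 P.isPGroup'
    have hPK : P' ≤ K := map_subtype_le _
    have h1 : Nat.card P' = r ^ n := by
      rw [hP', card_map_of_injective K.subtype_injective]; exact hn
    rw [h1]
    refine Nat.Coprime.pow_left _ ((Nat.Prime.coprime_iff_not_dvd hr).2 ?_)
    rw [← relIndex_mul_index hPK]
    intro hd'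
    rcases hr.dvd_mul.1 hd' with h | h
    · refine P.not_dvd_index ?_
      rwa [hP', relIndex, subgroupOf, comap_map_eq_self_of_injective K.subtype_injective] at h
    · exact hidx h
  obtain ⟨C, hC⟩ := exists_right_complement'_of_coprime hco
  have hCtop : C = ⊤ := by
    refine hsup C (top_unique ?_)
    rw [← hC.sup_eq_top, sup_comm]
    exact sup_le_sup_left (map_subtype_le _) C
  subst hCtop
  have hPbot : P' = ⊥ := isComplement'_top_right.1 hC
  have hPH : ¬ r ∣ Nat.card K := by
    intro hdK
    have h1 := P.dvd_card_of_dvd_card hdK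
    have h2 : Nat.card P' = Nat.card (P : Subgroup K) := card_map_of_injective K.subtype_injective
    rw [hPbot, card_bot] at h2
    rw [← h2] at h1
    exact hr.not_dvd_one h1
  rw [← K.index_mul_card] at hd
  exact (hr.dvd_mul.1 hd).elim hidx hPH

/-- The normaliser of a small subgroup with non-subnormal image. -/
theorem normalizer_image (h : MaxNormSub G) (hπ : Function.Surjective π) {H : Subgroup G}
    (hs : Small (Nat.card H)) (hn : ¬ (H.map π).IsSubnormal) :
    π.ker ≤ normalizer (H : Set G) ∧
      normalizer (H : Set G) = (normalizer ((H.map π : Subgroup Q) : Set Q)).comap π ∧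
      IsCoatom (normalizer ((H.map π : Subgroup Q) : Set Q)) := by
  have hco := h H (fun hsub => hn (hsub.map hπ)) hs
  have hne : normalizer ((H.map π : Subgroup Q) : Set Q) ≠ ⊤ := fun e => hn (normalizer_eq_top_iff.1 e).isSubnormal
  have hle : normalizer (H : Set G) ≤ (normalizer ((H.map π : Subgroup Q) : Set Q)).comap π := by
    intro g hg
    rw [mem_comap]
    refine mem_normalizer_iff.2 fun v => ⟨?_, ?_⟩
    · rintro ⟨w, hw, rfl⟩
      exact ⟨g * w * g⁻¹, conj_mem_of_mem_normalizer hg hw, by simp⟩
    · rintro ⟨w, hw, e⟩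
      refine ⟨g⁻¹ * w * g, ?_, ?_⟩
      · simpa using conj_mem_of_mem_normalizer (inv_mem hg) hw
      · rw [map_mul, map_mul, map_inv, e]; group
  have hne' : (normalizer ((H.map π : Subgroup Q) : Set Q)).comap π ≠ ⊤ := fun e =>
    hne (comap_injective hπ (e.trans (comap_top π).symm))
  have heq := ((hco.le_iff.1 hle).resolve_left hne').symm
  refine ⟨heq ▸ ker_le_comap π _, heq, hne, fun K hK => ?_⟩
  refine comap_injective hπ ?_
  rw [comap_top]
  exact hco.2 _ (heq ▸ (comap_lt_comap_of_surjective hπ).2 hK)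

theorem maxNormSub_quotient (h : MaxNormSub G) (hπ : Function.Surjective π) : MaxNormSub Q := by
  intro X hX hs
  obtain ⟨H, rfl, hp⟩ := exists_lift_primes π hπ X
  refine (normalizer_image π h hπ ?_ hX).2.2
  obtain ⟨p, q, hp', hq, hr⟩ := hs
  exact ⟨p, q, hp', hq, fun r hr' hd => hr r hr' (hp r hr' hd)⟩

end Quotient

/-- A group with trivial radical and maximal normalisers is `PSL₂(13)`. -/
theorem iso_thirteen_of_radical_free [Nontrivial G] (h : MaxNormSub G)
    (h0 : ∀ N : Subgroup G, N.Normal → Group.IsSolvable N → N = ⊥) :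
    Nonempty (G ≃* Matrix.ProjectiveSpecialLinearGroup (Fin 2) (ZMod 13)) := by
  have hsn : ∀ H : Subgroup G, Small (Nat.card H) → H ≠ ⊥ → ¬ H.IsSubnormal :=
    fun H hs hne hsub => hne (eq_bot_of_subnormal h0 hsub (small_isSolvable hs))
  have hM : MaxNorm G := fun H hs hne => h H (hsn H hs hne) hs
  have key : ∀ A B : Subgroup G, A.IsSubnormal → B.IsSubnormal → A ≠ ⊥ → B ≠ ⊥ →
      (∀ a ∈ A, ∀ b ∈ B, Commute a b) → False := by
    intro A B hA hB hA1 hB1 hc
    haveI := Fact.mk Nat.prime_two
    obtain ⟨⟨z, hzA⟩, hz⟩ := exists_prime_orderOf_dvd_card' 2 (G := A) (by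
      by_contra h2
      exact hA1 (eq_bot_of_subnormal h0 hA (CfsgLib.FT.isSolvable_of_odd
        (Nat.not_even_iff_odd.1 fun he => h2 (even_iff_two_dvd.1 he)))))
    rw [orderOf_mk] at hz
    obtain ⟨r, hr, hrd, hr2⟩ : ∃ r, r.Prime ∧ r ∣ Nat.card B ∧ r ≠ 2 := by
      by_contra hno
      push Not at hno
      exact hB1 (eq_bot_of_subnormal h0 hB (small_isSolvable
        ⟨2, 2, Nat.prime_two, Nat.prime_two, fun r hr hd => Or.inl (hno r hr hd)⟩))
    haveI := Fact.mk hr
    obtain ⟨⟨x, hxB⟩, hx⟩ := exists_prime_orderOf_dvd_card' r (G := B) hrd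
    rw [orderOf_mk] at hx
    have hzx := hc z hzA x hxB
    have hz1 := Rigid.zpowers_ne_bot' Nat.prime_two hz
    have hx1 := Rigid.zpowers_ne_bot' hr hx
    have hzx' : orderOf (z * x) = 2 * r := by
      rw [hzx.orderOf_mul_eq_mul_orderOf_of_coprime
        (by rw [hz, hx]; exact (Nat.coprime_primes Nat.prime_two hr).2 hr2.symm), hz, hx]
    have hne : zpowers (z * x) ≠ ⊥ := fun e => by
      have h1 : Nat.card (zpowers (z * x)) = 1 := by rw [e, card_bot]
      rw [Nat.card_zpowers, hzx'] at h1
      have := hr.two_le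
      omega
    have hco := hM (zpowers (z * x)) (by
      rw [Nat.card_zpowers, hzx']; simpa using small_pow_mul_pow Nat.prime_two hr 1 1) hne
    have sub : ∀ a : G, a ∈ zpowers (z * x) → ∀ g ∈ normalizer (zpowers (z * x) : Set G),
        g ∈ normalizer (zpowers a : Set G) := by
      intro a ha g hg
      rw [mem_normalizer_zpowers]
      obtain ⟨k, hk⟩ := ha
      obtain ⟨i, hi⟩ := conj_mem_of_mem_normalizer hg (mem_zpowers (z * x))
      have hk' : (z * x) ^ k = a := hk
      have hi' : (z * x) ^ i = g * (z * x) * g⁻¹ := hi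
      refine ⟨i, ?_⟩
      show a ^ i = g * a * g⁻¹
      rw [← hk', ← conj_zpow, ← hi', ← zpow_mul, ← zpow_mul, mul_comm]
    have hzm : z ∈ zpowers (z * x) := by
      have h1 : (z * x) ^ r ∈ zpowers (z * x) := pow_mem (mem_zpowers _) r
      rw [hzx.mul_pow, show x ^ r = 1 by rw [← hx]; exact pow_orderOf_eq_one x, mul_one] at h1
      obtain ⟨k, hk⟩ := hr.odd_of_ne_two hr2
      have h2 : z ^ r = z := by
        rw [hk, pow_succ, pow_mul, show z ^ 2 = 1 by rw [← hz]; exact pow_orderOf_eq_one z, one_pow, one_mul]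
      rwa [h2] at h1
    have hxm : x ∈ zpowers (z * x) := by
      have := mul_mem hzm (mem_zpowers (z * x))
      rwa [← mul_assoc, ← sq, show z ^ 2 = 1 by rw [← hz]; exact pow_orderOf_eq_one z, one_mul] at this
    have hsub : ∀ {a : G} {p : ℕ}, p.Prime → orderOf a = p → a ∈ zpowers (z * x) →
        normalizer (zpowers a : Set G) = normalizer (zpowers (z * x) : Set G) := by
      intro a p hp ha hm
      have hca := hM (zpowers a) (Rigid.small_zpowers hp ha) (Rigid.zpowers_ne_bot' hp ha)
      exact (hco.le_iff.1 fun g hg => sub a hm g hg).resolve_left hca.ne_top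
    have hNN : normalizer (zpowers z : Set G) = normalizer (zpowers x : Set G) :=
      (hsub Nat.prime_two hz hzm).trans (hsub hr hx hxm).symm
    refine hsn (zpowers x) (Rigid.small_zpowers hr hx) hx1
      (IsSubnormal.step _ B (zpowers_le.2 hxB) hB ((normal_subgroupOf_iff_le_normalizer (zpowers_le.2 hxB)).2 ?_))
    intro b hb
    rw [← hNN, normalizer_zpowers_invol hz]
    exact mem_centralizer_singleton_iff.2 (hc z hzA b hb).symm.eq
  haveI : Finite (Subgroup G) := Finite.of_injective (fun K => (K : Set G)) SetLike.coe_injective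
  obtain ⟨T, -, hT⟩ := (Set.toFinite {N : Subgroup G | N.Normal ∧ N ≠ ⊥}).exists_le_minimal
    (a := ⊤) ⟨inferInstance, top_ne_bot⟩
  haveI hTn := hT.prop.1
  have hTns : ¬ Group.IsSolvable T := fun hs => hT.prop.2 (h0 T hTn hs)
  haveI : Nontrivial T := (nontrivial_iff_ne_bot T).2 hT.prop.2
  have hsimple : IsSimpleGroup T := by
    refine ⟨fun N hN => ?_⟩
    by_contra hcon
    push Not at hcon
    haveI : Finite (Subgroup T) := Finite.of_injective (fun K => (K : Set T)) SetLike.coe_injective
    obtain ⟨S, hSN, hS⟩ := (Set.toFinite {M : Subgroup T | M.Normal ∧ M ≠ ⊥}).exists_le_minimal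
      (a := N) ⟨hN, hcon.1⟩
    haveI hSn := hS.prop.1
    set S' := S.map T.subtype with hS'
    have hS'1 : S' ≠ ⊥ := fun e => hS.prop.2 ((map_eq_bot_iff_of_injective S T.subtype_injective).1 e)
    have hsub : S'.IsSubnormal := by
      refine IsSubnormal.step _ T (map_subtype_le S) hTn.isSubnormal ?_
      rw [hS', subgroupOf, comap_map_eq_self_of_injective T.subtype_injective]
      exact hSn
    by_cases hall : ∀ g : G, ∀ v ∈ S', g * v * g⁻¹ ∈ S'
    · haveI : S'.Normal := ⟨fun v hv g => hall g v hv⟩
      have h1 := hT.le_of_le (y := S') ⟨inferInstance, hS'1⟩ (map_subtype_le S)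
      refine hcon.2 (top_unique fun t _ => hSN ?_)
      obtain ⟨w, hw, e⟩ := h1 t.2
      rwa [← T.subtype_injective e]
    · push Not at hall
      obtain ⟨g, v, hv, hgv⟩ := hall
      set S2 := S.map (MulAut.conjNormal g : MulAut T).toMonoidHom with hS2
      haveI hS2n : S2.Normal := hSn.map _ (MulAut.conjNormal g : MulAut T).surjective
      have hdis : S ⊓ S2 = ⊥ := by
        by_contra hne
        have h1 : S ≤ S ⊓ S2 := hS.le_of_le ⟨inferInstance, hne⟩ inf_le_left
        have h2 : S = S2 := eq_of_le_of_card_ge (h1.trans inf_le_right)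
          (card_map_of_injective (MulAut.conjNormal g : MulAut T).injective).le
        obtain ⟨w, hw, rfl⟩ := hv
        refine hgv ⟨MulAut.conjNormal g w, ?_, by simp⟩
        rw [h2]
        exact ⟨w, hw, rfl⟩
      refine key S' (S2.map T.subtype) hsub ?_ hS'1 ?_ ?_
      · refine IsSubnormal.step _ T (map_subtype_le S2) hTn.isSubnormal ?_
        rw [subgroupOf, comap_map_eq_self_of_injective T.subtype_injective]
        exact hS2n
      · intro e
        refine hS.prop.2 ((map_eq_bot_iff_of_injective S (MulAut.conjNormal g : MulAut T).injective).1 ?_)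
        exact (map_eq_bot_iff_of_injective S2 T.subtype_injective).1 e
      · rintro _ ⟨a, ha, rfl⟩ _ ⟨b, hb, rfl⟩
        exact (Subgroup.commute_of_normal_of_disjoint S S2 hSn hS2n (disjoint_iff.2 hdis) a b ha hb).map
          T.subtype
  haveI := hsimple
  have hnc : ∃ a b : T, a * b ≠ b * a := by
    by_contra hno
    push Not at hno
    exact hTns (IsSimpleGroup.comm_iff_isSolvable.1 hno)
  have hC : centralizer (T : Set G) = ⊥ := by
    by_contra hne
    haveI : (centralizer (T : Set G)).Normal := Subgroup.normal_centralizer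
    exact key T _ hTn.isSubnormal (Normal.isSubnormal inferInstance) hT.prop.2 hne
      fun a ha b hb => (mem_centralizer_iff.1 hb a ha : _)
  exact iso_thirteen_of_maxNorm hM T hnc hC

end CfsgLib.Recog.MaxNorm
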