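import Cfsg.Agent.Lib.Recog.MaxNorm.Outer
import Cfsg.Agent.Lib.PSL2.Icosa

/-!
`PSL₂(7)` and `PSL₂(11)` have small subgroups with nonmaximal normalisers.
-/

set_option autoImplicit false
set_option linter.unusedSectionVars false
set_option linter.style.haveILetI false

namespace CfsgLib.Recog.MaxNorm

open Subgroup Matrix CfsgLib.KnownB.SL2Products CfsgLib.GLTwo

theorem MaxNorm.of_equiv {G G' : Type*} [Group G] [Group G'] [Finite G] [Finite G'] (e : G ≃* G')
    (h : MaxNorm G) : MaxNorm G' := by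
  intro H hH hne
  have hc : Nat.card (H.comap e.toMonoidHom) = Nat.card H := by
    rw [comap_equiv_eq_map_symm']
    exact card_map_of_injective e.symm.injective
  have hm := h (H.comap e.toMonoidHom) (by rw [hc]; exact hH)
    (fun e' => hne (by rw [← card_eq_one, ← hc, e', card_bot]))
  have hN : normalizer ((H.comap e.toMonoidHom : Subgroup G) : Set G) =
      (normalizer (H : Set G')).comap e.toMonoidHom := by
    ext g
    rw [mem_comap]
    constructor
    · intro hg
      refine mem_normalizer_of_forall fun v hv => ?_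
      simpa using conj_mem_of_mem_normalizer hg (v := e.symm v) (by simpa using hv)
    · intro hg
      refine mem_normalizer_of_forall fun v hv => ?_
      simpa using conj_mem_of_mem_normalizer hg (v := e v) hv
  rw [hN] at hm
  refine ⟨fun et => hm.ne_top (by rw [et, comap_top]), fun K hK => ?_⟩
  refine comap_injective (f := e.toMonoidHom) e.surjective ?_
  rw [comap_top]
  exact hm.2 _ ((comap_lt_comap_of_surjective (f := e.toMonoidHom) e.surjective).2 hK)

theorem scalar_of_pr_eq {F : Type*} [Field F] {g h : SpecialLinearGroup (Fin 2) F} (e : pr g = pr h) :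
    ∃ c : F, (c = 1 ∨ c = -1) ∧ (g : Matrix (Fin 2) (Fin 2) F) = c • (h : Matrix (Fin 2) (Fin 2) F) := by
  have h1 : pr (h⁻¹ * g) = 1 := by rw [map_mul, map_inv, e, inv_mul_cancel]
  have hs := pr_eq_one_iff.1 h1
  refine ⟨((h⁻¹ * g : SpecialLinearGroup (Fin 2) F) : Matrix (Fin 2) (Fin 2) F) 0 0, scalar_sl hs, ?_⟩
  calc (g : Matrix (Fin 2) (Fin 2) F)
      = ((h * (h⁻¹ * g) : SpecialLinearGroup (Fin 2) F) : Matrix (Fin 2) (Fin 2) F) := by rw [mul_inv_cancel_left]
    _ = (h : Matrix (Fin 2) (Fin 2) F) * ((h⁻¹ * g : SpecialLinearGroup (Fin 2) F) : Matrix (Fin 2) (Fin 2) F) :=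
        rfl
    _ = _ := by rw [(isScalar2_iff _).1 hs]; simp

theorem pr_eq_of_smul {F : Type*} [Field F] {g h : SpecialLinearGroup (Fin 2) F} {c : F}
    (hc : c = 1 ∨ c = -1) (e : (g : Matrix (Fin 2) (Fin 2) F) = c • (h : Matrix (Fin 2) (Fin 2) F)) :
    pr g = pr h := by
  rcases hc with rfl | rfl
  · rw [show g = h from Subtype.ext (by simpa using e)]
  · rw [show g = -h from Subtype.ext (by simpa using e), pr_neg]

/-- The field with seven elements. -/
local instance fact_seven : Fact (Nat.Prime 7) := ⟨by norm_num⟩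

/-- The field with eleven elements. -/
local instance fact_eleven : Fact (Nat.Prime 11) := ⟨by norm_num⟩

section Seven

local notation "M7" => Matrix (Fin 2) (Fin 2) (ZMod 7)

set_option maxRecDepth 100000 in
theorem seven_check : ∀ a b c d : ZMod 7, a * d - b * c = 1 →
    ((!![a, b; c, d] * !![0, -1; 1, -1] : M7) = !![0, -1; 1, -1] * !![a, b; c, d] ∨
      (!![a, b; c, d] * !![0, -1; 1, -1] : M7) = -(!![0, -1; 1, -1] * !![a, b; c, d]) ∨
      (!![a, b; c, d] * !![0, -1; 1, -1] : M7) = !![-1, 1; -1, 0] * !![a, b; c, d] ∨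
      (!![a, b; c, d] * !![0, -1; 1, -1] : M7) = -(!![-1, 1; -1, 0] * !![a, b; c, d])) →
    ((!![a, b; c, d] * !![0, 2; 3, 0] : M7) = !![0, 2; 3, 0] * !![a, b; c, d] ∨
      (!![a, b; c, d] * !![0, 2; 3, 0] : M7) = -(!![0, 2; 3, 0] * !![a, b; c, d]) ∨
      (!![a, b; c, d] * !![0, 2; 3, 0] : M7) = !![3, 4; 1, 4] * !![a, b; c, d] ∨
      (!![a, b; c, d] * !![0, 2; 3, 0] : M7) = -(!![3, 4; 1, 4] * !![a, b; c, d]) ∨
      (!![a, b; c, d] * !![0, 2; 3, 0] : M7) = !![2, 1; 2, 5] * !![a, b; c, d] ∨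
      (!![a, b; c, d] * !![0, 2; 3, 0] : M7) = -(!![2, 1; 2, 5] * !![a, b; c, d])) ∧
    ((!![a, b; c, d] * !![3, 4; 1, 4] : M7) = !![0, 2; 3, 0] * !![a, b; c, d] ∨
      (!![a, b; c, d] * !![3, 4; 1, 4] : M7) = -(!![0, 2; 3, 0] * !![a, b; c, d]) ∨
      (!![a, b; c, d] * !![3, 4; 1, 4] : M7) = !![3, 4; 1, 4] * !![a, b; c, d] ∨
      (!![a, b; c, d] * !![3, 4; 1, 4] : M7) = -(!![3, 4; 1, 4] * !![a, b; c, d]) ∨
      (!![a, b; c, d] * !![3, 4; 1, 4] : M7) = !![2, 1; 2, 5] * !![a, b; c, d] ∨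
      (!![a, b; c, d] * !![3, 4; 1, 4] : M7) = -(!![2, 1; 2, 5] * !![a, b; c, d])) := by
  decide +kernel

set_option maxRecDepth 10000 in
theorem not_maxNorm_seven
    [IsSimpleGroup (Matrix.ProjectiveSpecialLinearGroup (Fin 2) (ZMod 7))] :
    ¬ MaxNorm (Matrix.ProjectiveSpecialLinearGroup (Fin 2) (ZMod 7)) := by
  intro hM
  haveI := Fact.mk Nat.prime_three
  let X : SpecialLinearGroup (Fin 2) (ZMod 7) := ⟨!![0, -1; 1, -1], by decide⟩
  let X2 : SpecialLinearGroup (Fin 2) (ZMod 7) := ⟨!![-1, 1; -1, 0], by decide⟩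
  let V1 : SpecialLinearGroup (Fin 2) (ZMod 7) := ⟨!![0, 2; 3, 0], by decide⟩
  let V2 : SpecialLinearGroup (Fin 2) (ZMod 7) := ⟨!![3, 4; 1, 4], by decide⟩
  let V3 : SpecialLinearGroup (Fin 2) (ZMod 7) := ⟨!![2, 1; 2, 5], by decide⟩
  set x := pr X with hxdef
  set v1 := pr V1 with hv1
  set v2 := pr V2 with hv2
  have hx3 : orderOf x = 3 := by
    refine orderOf_eq_prime ?_ (pr_ne_one_of_offdiag (Or.inr (by decide)))
    rw [← map_pow, show X ^ 3 = 1 from Subtype.ext (by decide +kernel), map_one]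
  have h11 : v1 * v1 = 1 := by
    rw [hv1, ← map_mul, show V1 * V1 = -1 from Subtype.ext (by decide +kernel), pr_neg, map_one]
  have h22 : v2 * v2 = 1 := by
    rw [hv2, ← map_mul, show V2 * V2 = -1 from Subtype.ext (by decide +kernel), pr_neg, map_one]
  have h12 : Commute v1 v2 := by
    show v1 * v2 = v2 * v1
    rw [hv1, hv2, ← map_mul, ← map_mul, show V1 * V2 = -(V2 * V1) from Subtype.ext (by decide +kernel), pr_neg]
  have h3 : pr V3 = v1 * v2 := by
    rw [hv1, hv2, ← map_mul]
    exact pr_eq_of_smul (c := (1 : ZMod 7)) (Or.inl rfl) (by decide +kernel)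
  haveI := Fact.mk Nat.prime_two
  have hne1 : v1 ≠ 1 := pr_ne_one_of_offdiag (Or.inl (by decide))
  have hne2 : v2 ≠ 1 := pr_ne_one_of_offdiag (Or.inl (by decide))
  have hne : v1 ≠ v2 := fun h => by
    obtain ⟨c, hc, e⟩ := scalar_of_pr_eq h
    rcases hc with rfl | rfl <;> revert e <;> decide +kernel
  have hF : CfsgLib.DGroup.Four v1 v2 :=
    ⟨orderOf_eq_prime (by rw [sq]; exact h11) hne1, orderOf_eq_prime (by rw [sq]; exact h22) hne2, h12, hne⟩
  have hv1x : v1 ∉ Subgroup.normalizer (Subgroup.zpowers x : Set (Matrix.ProjectiveSpecialLinearGroup (Fin 2) (ZMod 7))) := by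
    intro h
    obtain ⟨k, hk⟩ := mem_normalizer_zpowers.1 h
    have hk' : x ^ k = v1 * x * v1⁻¹ := hk
    rw [← zpow_mod_orderOf, hx3] at hk'
    have hXi : x * x = pr X2 := by
      rw [hxdef, ← map_mul]; exact congrArg pr (Subtype.ext (by decide +kernel))
    have hcase : pr (V1 * X) = pr V1 ∨ pr (V1 * X) = pr (X * V1) ∨ pr (V1 * X) = pr (X2 * V1) := by
      rw [map_mul, map_mul, map_mul, ← hv1, ← hxdef, ← hXi]
      rcases (show k % 3 = 0 ∨ k % 3 = 1 ∨ k % 3 = 2 by omega) with e | e | e <;>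
        push_cast at hk' <;> rw [e] at hk'
      · left
        rw [zpow_zero, eq_comm, conj_eq_one_iff] at hk'
        rw [hk', mul_one]
      · right; left
        rw [zpow_one, eq_mul_inv_iff_mul_eq] at hk'
        exact hk'.symm
      · right; right
        rw [zpow_two, eq_mul_inv_iff_mul_eq] at hk'
        exact hk'.symm
    rcases hcase with h | h | h <;> obtain ⟨c, hc, e⟩ := scalar_of_pr_eq h <;>
      rcases hc with rfl | rfl <;> revert e <;> decide +kernel
  have hco := hM (Subgroup.zpowers x) (Rigid.small_zpowers Nat.prime_three hx3)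
    (Rigid.zpowers_ne_bot' Nat.prime_three hx3)
  have hle : Subgroup.normalizer (Subgroup.zpowers x : Set (Matrix.ProjectiveSpecialLinearGroup (Fin 2) (ZMod 7))) ≤ Subgroup.normalizer (hF.grp : Set (Matrix.ProjectiveSpecialLinearGroup (Fin 2) (ZMod 7))) := by
    intro m hm
    obtain ⟨g, rfl⟩ := pr_surjective m
    obtain ⟨k, hk⟩ := mem_normalizer_zpowers.1 hm
    have hk' : x ^ k = pr g * x * (pr g)⁻¹ := hk
    rw [← zpow_mod_orderOf, hx3] at hk'
    have hcase : pr (g * X) = pr (X * g) ∨ pr (g * X) = pr (X2 * g) := by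
      rw [map_mul, map_mul, map_mul, ← hxdef]
      rcases (show k % 3 = 0 ∨ k % 3 = 1 ∨ k % 3 = 2 by omega) with e | e | e <;>
        push_cast at hk' <;> rw [e] at hk'
      · rw [zpow_zero, eq_comm, conj_eq_one_iff] at hk'
        rw [hk', orderOf_one] at hx3
        omega
      · left
        rw [zpow_one, eq_mul_inv_iff_mul_eq] at hk'
        exact hk'.symm
      · right
        rw [zpow_two, eq_mul_inv_iff_mul_eq] at hk'
        have hXi : pr X2 = x * x := by
          rw [hxdef, ← map_mul]; exact congrArg pr (Subtype.ext (by decide +kernel))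
        rw [hXi]
        exact hk'.symm
    have hg : (g : M7) = !![(g : M7) 0 0, (g : M7) 0 1; (g : M7) 1 0, (g : M7) 1 1] := Matrix.eta_fin_two _
    have hdet := g.2
    rw [Matrix.det_fin_two] at hdet
    have hpre : ((g : M7) * X = X * g ∨ (g : M7) * X = -(X * g : M7) ∨ (g : M7) * X = X2 * g ∨
        (g : M7) * X = -(X2 * g : M7)) := by
      rcases hcase with h | h <;> obtain ⟨c, hc, e⟩ := scalar_of_pr_eq h <;> rcases hc with rfl | rfl <;>
        simp only [SpecialLinearGroup.coe_mul, one_smul, neg_smul] at e <;> tauto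
    simp only [X, X2] at hpre
    rw [hg] at hpre
    obtain ⟨h1, h2⟩ := seven_check _ _ _ _ hdet hpre
    rw [← hg] at h1 h2
    have conv : ∀ U : SpecialLinearGroup (Fin 2) (ZMod 7),
        ((g : M7) * U = V1 * g ∨ (g : M7) * U = -(V1 * g : M7) ∨ (g : M7) * U = V2 * g ∨
          (g : M7) * U = -(V2 * g : M7) ∨ (g : M7) * U = V3 * g ∨ (g : M7) * U = -(V3 * g : M7)) →
        pr g * pr U * (pr g)⁻¹ ∈ hF.grp := by
      intro U hU
      have key : ∀ W : SpecialLinearGroup (Fin 2) (ZMod 7),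
          ((g : M7) * U = W * g ∨ (g : M7) * U = -(W * g : M7)) → pr g * pr U * (pr g)⁻¹ = pr W := by
        intro W h
        rw [mul_inv_eq_iff_eq_mul, ← map_mul, ← map_mul]
        rcases h with h | h
        · exact pr_eq_of_smul (Or.inl rfl) (by rw [one_smul]; exact h)
        · exact pr_eq_of_smul (Or.inr rfl) (by rw [neg_one_smul]; exact h)
      rcases hU with h | h | h | h | h | h
      · rw [key V1 (Or.inl h)]; exact hF.z_mem
      · rw [key V1 (Or.inr h)]; exact hF.z_mem
      · rw [key V2 (Or.inl h)]; exact hF.u_mem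
      · rw [key V2 (Or.inr h)]; exact hF.u_mem
      · rw [key V3 (Or.inl h), h3]; exact mul_mem hF.z_mem hF.u_mem
      · rw [key V3 (Or.inr h), h3]; exact mul_mem hF.z_mem hF.u_mem
    refine mem_normalizer_of_forall fun v hv => ?_
    have e1 := conv V1 h1
    have e2 := conv V2 h2
    rcases hv with rfl | rfl | rfl | rfl
    · simp
    · exact e1
    · exact e2
    · rw [← conj_mul]; exact mul_mem e1 e2
  rcases hco.le_iff.1 hle with h | h
  · rcases (Subgroup.normalizer_eq_top_iff.1 h).eq_bot_or_eq_top with e | e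
    · exact hne1 (Subgroup.mem_bot.1 (e ▸ hF.z_mem))
    · have hx : x ∈ hF.grp := e ▸ Subgroup.mem_top x
      have h2 := hF.mul_self hx
      rw [← sq] at h2
      have := orderOf_dvd_of_pow_eq_one h2
      rw [hx3] at this
      exact absurd this (by norm_num)
  · exact hv1x (h ▸ Subgroup.le_normalizer hF.z_mem)

end Seven

/-- A diagonal element. -/
def diagSL {F : Type*} [Field F] (u : Fˣ) : SpecialLinearGroup (Fin 2) F :=
  ⟨!![(u : F), 0; 0, ((u⁻¹ : Fˣ) : F)], by simp [Matrix.det_fin_two]⟩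

/-- An antidiagonal element. -/
def antiSL {F : Type*} [Field F] (u : Fˣ) : SpecialLinearGroup (Fin 2) F :=
  ⟨!![0, (u : F); -((u⁻¹ : Fˣ) : F), 0], by simp [Matrix.det_fin_two]⟩

section Eleven

local notation "M11" => Matrix (Fin 2) (Fin 2) (ZMod 11)
local notation "L11" => Matrix.ProjectiveSpecialLinearGroup (Fin 2) (ZMod 11)

theorem card_L11 : Nat.card L11 = 660 := by
  have := CfsgLib.Classical.card_PSL_two_mul (F := ZMod 11)
  rw [Nat.card_zmod, show Nat.gcd 2 (11 - 1) = 2 from rfl] at this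
  simp only [Nat.reducePow, Nat.reduceSub, Nat.reduceMul] at this
  omega

theorem diag_five_facts : ∀ k : Fin 5, ∀ c : ZMod 11, (c = 1 ∨ c = -1) →
    ((c * 2 ^ (k : ℕ) = 2 → c * 6 ^ (k : ℕ) ≠ 2) ∧ (c * 6 ^ (k : ℕ) = 6 → c * 2 ^ (k : ℕ) ≠ 6)) := by
  rintro k c (rfl | rfl) <;> revert k <;> decide

theorem card_normalizer_five :
    ∃ y : L11, orderOf y = 5 ∧ Nat.card (Subgroup.normalizer (Subgroup.zpowers y : Set L11)) ≤ 20 := by
  haveI := Fact.mk Nat.prime_five
  let D : SpecialLinearGroup (Fin 2) (ZMod 11) := ⟨!![2, 0; 0, 6], by decide⟩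
  have hy1 : pr D ≠ 1 := fun e => by
    obtain ⟨-, -, h⟩ := pr_eq_one_iff.1 e
    revert h; decide
  have hD5 : orderOf (pr D) = 5 := by
    refine orderOf_eq_prime ?_ hy1
    rw [← map_pow, show D ^ 5 = -1 from Subtype.ext (by decide +kernel), pr_neg, map_one]
  refine ⟨pr D, hD5, ?_⟩
  let f : Bool × (ZMod 11)ˣ → L11 := fun q => pr (if q.1 then diagSL q.2 else antiSL q.2)
  have hmem : ∀ m ∈ Subgroup.normalizer (Subgroup.zpowers (pr D) : Set L11), ∃ q, f q = m := by
    intro m hm
    obtain ⟨g, rfl⟩ := pr_surjective m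
    obtain ⟨i, hi⟩ := mem_normalizer_zpowers.1 hm
    have hi' : pr D ^ i = pr g * pr D * (pr g)⁻¹ := hi
    obtain ⟨k, hk⟩ : ∃ k : Fin 5, pr D ^ i = pr D ^ (k : ℕ) := by
      refine ⟨⟨(i % 5).toNat, by omega⟩, ?_⟩
      rw [← zpow_natCast, ← zpow_mod_orderOf, hD5]
      congr 1
      push_cast
      omega
    rw [hk, eq_mul_inv_iff_mul_eq, ← map_pow, ← map_mul, ← map_mul] at hi'
    obtain ⟨c, hc, e⟩ := scalar_of_pr_eq hi'.symm
    obtain ⟨F1, F2⟩ := diag_five_facts k c hc
    have hDk : ((D ^ (k : ℕ) : SpecialLinearGroup (Fin 2) (ZMod 11)) : M11) =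
        !![2 ^ (k : ℕ), 0; 0, 6 ^ (k : ℕ)] := by
      induction (k : ℕ) with
      | zero =>
        rw [pow_zero]
        ext i j; fin_cases i <;> fin_cases j <;> simp
      | succ n ih =>
        rw [pow_succ]
        show ((D ^ n : SpecialLinearGroup (Fin 2) (ZMod 11)) : M11) * (D : M11) = _
        rw [ih]
        simp [D, Matrix.mul_fin_two, pow_succ]
    replace e : (g : M11) * (D : M11) =
        c • (((D ^ (k : ℕ) : SpecialLinearGroup (Fin 2) (ZMod 11)) : M11) * (g : M11)) := e
    rw [hDk] at e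
    rw [Matrix.eta_fin_two (g : M11)] at e
    have e00 := congrFun (congrFun e 0) 0
    have e01 := congrFun (congrFun e 0) 1
    have e10 := congrFun (congrFun e 1) 0
    have e11 := congrFun (congrFun e 1) 1
    simp [D, Matrix.mul_fin_two] at e00 e01 e10 e11
    have hdet := g.2
    rw [Matrix.det_fin_two] at hdet
    by_cases ha : (g : M11) 0 0 = 0
    · rw [ha, zero_mul, zero_sub] at hdet
      have hb : (g : M11) 0 1 ≠ 0 := fun h => by rw [h, zero_mul, neg_zero] at hdet; exact zero_ne_one hdet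
      have hm6 : c * 2 ^ (k : ℕ) = 6 := mul_right_cancel₀ hb (by linear_combination -e01)
      have hd : (g : M11) 1 1 = 0 := by
        by_contra hd
        exact F2 (mul_right_cancel₀ hd (by linear_combination -e11)) hm6
      refine ⟨(false, Units.mk0 _ hb), ?_⟩
      show pr _ = pr g
      congr 1
      apply Subtype.ext
      ext i j
      fin_cases i <;> fin_cases j <;> simp [ha, hd, diagSL, antiSL]
      field_simp
      linear_combination hdet
    · have hm2 : c * 2 ^ (k : ℕ) = 2 := mul_right_cancel₀ ha (by linear_combination -e00)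
      have hb : (g : M11) 0 1 = 0 := by
        by_contra hb
        have h26 : (2 : ZMod 11) = 6 := hm2.symm.trans (mul_right_cancel₀ hb (by linear_combination -e01))
        revert h26; decide
      rw [hb, zero_mul, sub_zero] at hdet
      have hd : (g : M11) 1 1 ≠ 0 := fun h => by rw [h, mul_zero] at hdet; exact zero_ne_one hdet
      have hn6 : c * 6 ^ (k : ℕ) = 6 := mul_right_cancel₀ hd (by linear_combination -e11)
      have hc0 : (g : M11) 1 0 = 0 := by
        by_contra h
        exact F1 hm2 (mul_right_cancel₀ h (by linear_combination -e10))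
      refine ⟨(true, Units.mk0 _ ha), ?_⟩
      show pr _ = pr g
      congr 1
      apply Subtype.ext
      ext i j
      fin_cases i <;> fin_cases j <;> simp [hb, hc0, diagSL, antiSL]
      field_simp
      linear_combination -hdet
  refine (Nat.card_le_card_of_surjective
    (fun q : {q // f q ∈ Subgroup.normalizer (Subgroup.zpowers (pr D) : Set L11)} =>
      (⟨f q.1, q.2⟩ : Subgroup.normalizer (Subgroup.zpowers (pr D) : Set L11))) fun m => ?_).trans ?_
  · obtain ⟨q, hq⟩ := hmem m m.2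
    exact ⟨⟨q, hq ▸ m.2⟩, Subtype.ext hq⟩
  · refine (Finite.card_subtype_le _).trans ?_
    rw [Nat.card_prod, Nat.card_units, Nat.card_zmod, Nat.card_eq_fintype_card, Fintype.card_bool]

theorem card_normalizer_of_five {y : L11} (hy : orderOf y = 5) :
    Nat.card (Subgroup.normalizer (Subgroup.zpowers y : Set L11)) = 10 := by
  haveI := Fact.mk Nat.prime_five
  obtain ⟨y0, hy0, h20⟩ := card_normalizer_five
  have hfac : (660 : ℕ).factorization 5 = 1 := by
    rw [show (660 : ℕ) = 5 ^ 1 * 132 by norm_num, Nat.factorization_mul (by norm_num) (by norm_num),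
      Finsupp.add_apply, Nat.Prime.factorization_pow (by norm_num), Finsupp.single_eq_same,
      Nat.factorization_eq_zero_of_not_dvd (by norm_num)]
  have key : ∀ a : L11, orderOf a = 5 →
      Nat.card (Sylow 5 L11) * Nat.card (Subgroup.normalizer (Subgroup.zpowers a : Set L11)) = 660 := by
    intro a ha
    obtain ⟨P, hP⟩ := (IsPGroup.of_card (p := 5) (n := 1) (G := Subgroup.zpowers a)
      (by rw [Nat.card_zpowers, ha, pow_one])).exists_le_sylow
    have hPc : Nat.card (P : Subgroup L11) = 5 := by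
      rw [P.card_eq_multiplicity, card_L11, hfac]; rfl
    have hPa : Subgroup.zpowers a = (P : Subgroup L11) :=
      Subgroup.eq_of_le_of_card_ge hP (by rw [hPc, Nat.card_zpowers, ha])
    rw [Sylow.card_eq_index_normalizer P, show ((P : Set L11)) = (Subgroup.zpowers a : Set L11) from by
      rw [hPa]; rfl, Subgroup.index_mul_card, card_L11]
  have h0 := key y0 hy0
  have h1 := key y hy
  have hdvd : 5 ∣ Nat.card (Subgroup.normalizer (Subgroup.zpowers y0 : Set L11)) :=
    hy0 ▸ Subgroup.orderOf_dvd_natCard _ (Subgroup.le_normalizer (Subgroup.mem_zpowers y0))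
  have hmod := card_sylow_modEq_one 5 L11
  rw [Nat.ModEq] at hmod
  generalize Nat.card (Subgroup.normalizer (Subgroup.zpowers y : Set L11)) = n at *
  generalize Nat.card (Sylow 5 L11) = s at *
  obtain ⟨m, hm⟩ := hdvd
  rw [hm] at h0 h20
  have hm4 : m ≤ 4 := by omega
  have hs : s = 66 := by interval_cases m <;> omega
  subst hs
  omega

set_option maxRecDepth 10000 in
theorem not_maxNorm_eleven [IsSimpleGroup L11] : ¬ MaxNorm L11 := by
  intro hM
  haveI := Fact.mk Nat.prime_five
  obtain ⟨X, hX, ⟨i⟩⟩ := CfsgLib.PSL2.exists_alt_five (F := ZMod 11) (τ := 4) (by decide)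
  set ι := (ProjectiveSpecialLinearGroup.toPGL (n := Fin 2) (R := ZMod 11)) with hι
  set X' := X.comap ι with hX'
  have e : X' ≃* alternatingGroup (Fin 5) :=
    ((X'.equivMapOfInjective ι ProjectiveSpecialLinearGroup.toPGL_injective).trans
      (MulEquiv.subgroupCongr (Subgroup.map_comap_eq_self hX))).trans i
  let r5 : alternatingGroup (Fin 5) := ⟨finRotate 5, Equiv.Perm.mem_alternatingGroup.2 (by decide)⟩
  let w5 : alternatingGroup (Fin 5) :=
    ⟨Equiv.swap 1 4 * Equiv.swap 2 3, Equiv.Perm.mem_alternatingGroup.2 (by decide)⟩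
  have hr : orderOf r5 = 5 := orderOf_eq_prime (by decide +kernel) (by decide +kernel)
  haveI := Fact.mk Nat.prime_two
  have hw : orderOf w5 = 2 := orderOf_eq_prime (by decide +kernel) (by decide +kernel)
  have hinv : w5 * r5 * w5⁻¹ = r5⁻¹ := by decide +kernel
  set y : L11 := ((e.symm r5 : X') : L11) with hy
  set w : L11 := ((e.symm w5 : X') : L11) with hwdef
  have hyo : orderOf y = 5 := by rw [hy, Subgroup.orderOf_coe, MulEquiv.orderOf_eq, hr]
  have hwo : orderOf w = 2 := by rw [hwdef, Subgroup.orderOf_coe, MulEquiv.orderOf_eq, hw]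
  have hwy : w * y * w⁻¹ = y⁻¹ := by
    rw [hy, hwdef, ← Subgroup.coe_inv, ← Subgroup.coe_mul, ← Subgroup.coe_mul, ← map_inv, ← map_mul,
      ← map_mul, hinv, map_inv, Subgroup.coe_inv]
  have hN := card_normalizer_of_five hyo
  set N := Subgroup.normalizer (Subgroup.zpowers y : Set L11) with hNdef
  have hwN : w ∈ N := mem_normalizer_zpowers.2 (by rw [hwy]; exact inv_mem (Subgroup.mem_zpowers y))
  have hyN : y ∈ N := Subgroup.le_normalizer (Subgroup.mem_zpowers y)
  have h10 : 10 ∣ Nat.card ↥(N ⊓ X') := by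
    have h2 : 2 ∣ Nat.card ↥(N ⊓ X') := (dvd_of_eq hwo.symm).trans <| Subgroup.orderOf_dvd_natCard _ (Subgroup.mem_inf.2 ⟨hwN, (e.symm w5).2⟩)
    have h5 : 5 ∣ Nat.card ↥(N ⊓ X') := (dvd_of_eq hyo.symm).trans <| Subgroup.orderOf_dvd_natCard _ (Subgroup.mem_inf.2 ⟨hyN, (e.symm r5).2⟩)
    exact Nat.Coprime.mul_dvd_of_dvd_of_dvd (by norm_num : Nat.Coprime 2 5) h2 h5
  have hle : N ≤ X' := inf_eq_left.1 (Subgroup.eq_of_le_of_card_ge inf_le_left
    (by rw [hN]; exact Nat.le_of_dvd Nat.card_pos h10))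
  have hXc : Nat.card X' = 60 := by
    rw [Nat.card_congr e.toEquiv, nat_card_alternatingGroup, Nat.card_fin]; rfl
  have hco := hM (Subgroup.zpowers y) (Rigid.small_zpowers Nat.prime_five hyo)
    (Rigid.zpowers_ne_bot' Nat.prime_five hyo)
  rcases hco.le_iff.1 hle with h | h
  · rw [h, Subgroup.card_top, card_L11] at hXc; omega
  · rw [h, ← hNdef, hN] at hXc; omega

end Eleven

theorem iso_thirteen_of_maxNorm {G : Type*} [Group G] [Finite G] (hM : MaxNorm G) (T : Subgroup G) [T.Normal]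
    [IsSimpleGroup T] (hnc : ∃ a b : T, a * b ≠ b * a) (hC : Subgroup.centralizer (T : Set G) = ⊥) :
    Nonempty (G ≃* Matrix.ProjectiveSpecialLinearGroup (Fin 2) (ZMod 13)) := by
  haveI : Fact (Nat.Prime 13) := ⟨by norm_num⟩
  rcases rigid_cases hnc (rigid_of_maxNorm hM T) with ⟨⟨e⟩⟩ | ⟨⟨e⟩⟩ | ⟨⟨e⟩⟩
  · exfalso
    have hT := eq_top_of_witness witness_seven (by norm_num) hM T hC e
    subst hT
    haveI : IsSimpleGroup (Matrix.ProjectiveSpecialLinearGroup (Fin 2) (ZMod 7)) := e.symm.isSimpleGroup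
    exact not_maxNorm_seven (MaxNorm.of_equiv (Subgroup.topEquiv.symm.trans e) hM)
  · exfalso
    have hT := eq_top_of_witness witness_eleven (by norm_num) hM T hC e
    subst hT
    haveI : IsSimpleGroup (Matrix.ProjectiveSpecialLinearGroup (Fin 2) (ZMod 11)) := e.symm.isSimpleGroup
    exact not_maxNorm_eleven (MaxNorm.of_equiv (Subgroup.topEquiv.symm.trans e) hM)
  · have hT := eq_top_of_witness witness_thirteen (by norm_num) hM T hC e
    subst hT
    exact ⟨Subgroup.topEquiv.symm.trans e⟩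

end CfsgLib.Recog.MaxNorm
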