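import Cfsg.Agent.Lib.Recog.MaxNorm.Good

/-!
The centraliser of a good involution in a rigid group without isolated involutions.
-/

set_option autoImplicit false
set_option linter.unusedSectionVars false
set_option linter.style.haveILetI false

namespace CfsgLib.Recog.MaxNorm

open Subgroup CfsgLib.Involutions

variable {T : Type*} [Group T] [Finite T] (rig : Rigid T) (hI : NoIso T)

namespace GD

variable {z x : T} {q : ℕ} (D : GD z x q)
include rig D

/-- Data of a second involution. -/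
theorem zpowers_eq {u : T} (huu : u * u = 1) (huz : Commute u z) (hun : u ∉ cen z) {y : T} {r : ℕ}
    (hr : r.Prime) (hr2 : r ≠ 2) (hy : orderOf y = r) (hyz : Commute y z) :
    zpowers y = zpowers x := by
  have D' : GD z y r := ⟨D.oz, hr, hr2, hy, hyz.symm⟩
  by_contra hne
  refine hun ⟨huu, huz, fun m hm => ?_⟩
  have h1 := D.conj_invol_mem rig huu huz hun hm
  have h2 := D'.conj_invol_mem rig huu huz hun hm
  by_cases e : m * u * m⁻¹ * u = 1
  · have : m * u * m⁻¹ = u := by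
      rw [mul_eq_one_iff_eq_inv.1 e, inv_eq_of_mul_eq_one_right huu]
    exact mul_inv_eq_iff_eq_mul.1 this
  · exact absurd (eq_of_prime_zpowers hr D.hq hy D.ox h2 h1 e) hne

theorem odd_mem {u : T} (huu : u * u = 1) (huz : Commute u z) (hun : u ∉ cen z) {y : T}
    (hyz : Commute y z) (hodd : Odd (orderOf y)) : y ∈ zpowers x := by
  haveI := Fact.mk D.hq
  obtain ⟨hinv, -⟩ := D.inverts rig huu huz hun
  by_cases hy1 : y = 1
  · rw [hy1]; exact one_mem _
  obtain ⟨k, r, hr, hrd, hk⟩ := exists_prime_pow hy1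
  have hr2 : r ≠ 2 := fun e => by
    subst e
    exact (Nat.not_even_iff_odd.2 hodd) (even_iff_two_dvd.2 hrd)
  have hz := D.zpowers_eq rig huu huz hun hr hr2 hk (hyz.pow_left k)
  have hpure : ∀ s, s.Prime → s ∣ orderOf y → s = q := by
    intro s hs hsd
    have hs2 : s ≠ 2 := fun e => by
      subst e
      exact (Nat.not_even_iff_odd.2 hodd) (even_iff_two_dvd.2 hsd)
    have h1 : orderOf (y ^ (orderOf y / s)) = s := by
      rw [orderOf_pow_of_dvd ((Nat.div_ne_zero_iff_of_dvd hsd).2 ⟨(orderOf_pos y).ne', hs.ne_zero⟩)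
        (Nat.div_dvd_of_dvd hsd), Nat.div_div_self hsd (orderOf_pos y).ne']
    have h2 := congrArg (fun H : Subgroup T => Nat.card H)
      (D.zpowers_eq rig huu huz hun hs hs2 h1 (hyz.pow_left _))
    simp only [Nat.card_zpowers, h1, D.ox] at h2
    exact h2
  have hn : orderOf y = q ^ (orderOf y).primeFactorsList.length :=
    Nat.eq_prime_pow_of_unique_prime_dvd (orderOf_pos y).ne' fun {d} hd hdd => hpure d hd hdd
  obtain ⟨n, hn⟩ : ∃ n, orderOf y = q ^ (n + 1) := by
    refine ⟨(orderOf y).primeFactorsList.length - 1, ?_⟩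
    rw [Nat.sub_add_cancel]
    · exact hn
    · by_contra h0
      rw [Nat.lt_one_iff.1 (not_le.1 h0), pow_zero] at hn
      exact hy1 (orderOf_eq_one_iff.1 hn)
  have ha : orderOf (y ^ (q ^ n)) = q := by
    rw [orderOf_pow_of_dvd (pow_ne_zero _ D.hq.ne_zero) (by rw [hn]; exact pow_dvd_pow _ (Nat.le_succ n)),
      hn, pow_succ, Nat.mul_div_cancel_left _ (pow_pos D.hq.pos n)]
  have hza := D.zpowers_eq rig huu huz hun D.hq D.odd ha (hyz.pow_left _)
  rcases Nat.eq_zero_or_pos n with h0 | h0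
  · subst h0
    rw [← hza]
    simp
  exfalso
  -- `y` moves `u` by a power of `x`, so `y ^ (q ^ n)` fixes it
  obtain ⟨i, hi⟩ := D.conj_invol_mem rig huu huz hun hyz
  have hi' : x ^ i = y * u * y⁻¹ * u := hi
  have hyx : Commute y x := by
    obtain ⟨j, hj⟩ := (hza ▸ mem_zpowers x : x ∈ zpowers (y ^ (q ^ n)))
    have hj' : (y ^ (q ^ n)) ^ j = x := hj
    exact hj' ▸ ((Commute.refl y).pow_right _).zpow_right j
  have hm : ∀ m : ℕ, y ^ m * u * (y ^ m)⁻¹ = x ^ (i * m) * u := by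
    intro m
    induction m with
    | zero => simp
    | succ m ih =>
      rw [pow_succ', show y * y ^ m * u * (y * y ^ m)⁻¹ = y * (y ^ m * u * (y ^ m)⁻¹) * y⁻¹ by group, ih,
        show y * (x ^ (i * ↑m) * u) * y⁻¹ = y * x ^ (i * ↑m) * y⁻¹ * (y * u * y⁻¹) by group,
        (hyx.zpow_right _).eq, mul_inv_cancel_right,
        show y * u * y⁻¹ = x ^ i * u by rw [hi', mul_assoc _ u u, huu, mul_one],
        ← mul_assoc, ← zpow_add]
      congr 2
      push_cast; ring
  have h1 := hm (q ^ n)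
  have hxq : x ^ (i * ((q ^ n : ℕ) : ℤ)) = 1 := by
    refine orderOf_dvd_iff_zpow_eq_one.1 ?_
    rw [D.ox]
    exact Dvd.dvd.mul_left (Int.natCast_dvd_natCast.2 (dvd_pow_self q (Nat.pos_iff_ne_zero.1 h0))) _
  rw [hxq, one_mul] at h1
  have hcu : Commute u (y ^ (q ^ n)) := (mul_inv_eq_iff_eq_mul.1 h1).symm
  obtain ⟨j, hj⟩ := (hza ▸ mem_zpowers x : x ∈ zpowers (y ^ (q ^ n)))
  have hj' : (y ^ (q ^ n)) ^ j = x := hj
  have hux : Commute u x := hj' ▸ hcu.zpow_right j
  exact hun ⟨huu, huz, fun m hm => D.central_of_comm_x rig huu hux hm⟩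

theorem isPGroup_inf {u : T} (huu : u * u = 1) (huz : Commute u z) (hun : u ∉ cen z) :
    IsPGroup 2 ↥(centralizer ({z} : Set T) ⊓ centralizer {u}) := by
  intro ⟨a, ha⟩
  obtain ⟨hinv, -⟩ := D.inverts rig huu huz hun
  have haz : Commute a z := mem_centralizer_singleton_iff.1 ha.1
  have hau : Commute a u := mem_centralizer_singleton_iff.1 ha.2
  refine ⟨padicValNat 2 (orderOf a), Subtype.ext ?_⟩
  show a ^ (2 ^ padicValNat 2 (orderOf a)) = 1
  set b := a ^ (2 ^ padicValNat 2 (orderOf a)) with hb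
  have hodd : Odd (orderOf b) := by
    rw [hb, orderOf_pow_of_dvd (by positivity) pow_padicValNat_dvd, ← Nat.not_even_iff_odd,
      even_iff_two_dvd]
    intro h
    have h2 : 2 ^ (padicValNat 2 (orderOf a) + 1) ∣ orderOf a := by
      rw [pow_succ]
      exact (Nat.dvd_div_iff_mul_dvd pow_padicValNat_dvd).1 h
    haveI := Fact.mk Nat.prime_two
    have := (padicValNat_dvd_iff_le (orderOf_pos a).ne').1 h2
    omega
  obtain ⟨i, hi⟩ := D.odd_mem rig huu huz hun (haz.pow_left _) hodd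
  have hi' : x ^ i = b := hi
  have hbu : u * b * u⁻¹ = b := by
    rw [← (hau.pow_left _).eq, mul_inv_cancel_right]
  rw [← hi', ← conj_zpow, hinv, inv_zpow, hi'] at hbu
  exact eq_one_of_eq_inv_of_odd hbu.symm hodd

theorem u_comm {R : Subgroup T} (hR : IsPGroup 2 R) (hRz : R ≤ centralizer {z}) {u : T}
    (huu : u * u = 1) (hun : u ∉ cen z) (huR : u ∈ R) {r : T} (hr : r ∈ R) : Commute r u := by
  have huz : Commute u z := mem_centralizer_singleton_iff.1 (hRz huR)
  have h := D.conj_invol_mem rig huu huz hun (mem_centralizer_singleton_iff.1 (hRz hr))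
  have hm : r * u * r⁻¹ * u ∈ R := mul_mem (mul_mem (mul_mem hr huR) (inv_mem hr)) huR
  obtain ⟨k, hk⟩ := hR ⟨_, hm⟩
  have hk' : (r * u * r⁻¹ * u) ^ (2 ^ k) = 1 := congrArg Subtype.val hk
  have h1 : r * u * r⁻¹ * u = 1 := by
    refine orderOf_eq_one_iff.1 ?_
    refine Nat.eq_one_of_dvd_coprimes (a := 2 ^ k) (b := q) ?_ (orderOf_dvd_of_pow_eq_one hk') (D.ox ▸ orderOf_dvd_of_mem_zpowers h)
    exact Nat.Coprime.pow_left _ ((Nat.coprime_primes Nat.prime_two D.hq).2 D.odd.symm)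
  exact mul_inv_eq_iff_eq_mul.1 (by rw [mul_eq_one_iff_eq_inv.1 h1, inv_eq_of_mul_eq_one_right huu])

theorem mul_mem_cen {t u : T} (htt : t * t = 1) (htz : Commute t z) (htn : t ∉ cen z) (huu : u * u = 1)
    (huz : Commute u z) (hun : u ∉ cen z) (hc : Commute t u) : t * u ∈ cen z := by
  have h1 := (D.inverts rig htt htz htn).1
  have h2 := (D.inverts rig huu huz hun).1
  have hsq : t * u * (t * u) = 1 := by rw [hc.symm.mul_mul_mul_comm, htt, huu, one_mul]
  have hx : Commute (t * u) x := by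
    refine mul_inv_eq_iff_eq_mul.1 ?_
    rw [show t * u * x * (t * u)⁻¹ = t * (u * x * u⁻¹) * t⁻¹ by group, h2,
      show t * x⁻¹ * t⁻¹ = (t * x * t⁻¹)⁻¹ by group, h1, inv_inv]
  exact ⟨hsq, htz.mul_left huz, fun m hm => D.central_of_comm_x rig hsq hx hm⟩

theorem root_comm {r : T} (h : r * r = z) : Commute r x := by
  haveI := Fact.mk Nat.prime_two
  have hrz : Commute r z := h ▸ (Commute.refl r).mul_right (Commute.refl r)
  have hr4 : orderOf r = 2 ^ (1 + 1) := by
    refine orderOf_eq_prime_pow ?_ ?_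
    · rw [pow_one, sq, h]; exact invol_ne_one D.oz
    · rw [show (2 : ℕ) ^ (1 + 1) = 2 * 2 by norm_num, pow_mul, sq, sq, h, invol_mul_self D.oz]
  have hne : zpowers r ≠ ⊥ := by
    intro e
    have : r = 1 := mem_bot.1 (e ▸ mem_zpowers r)
    rw [this, one_mul] at h
    exact invol_ne_one D.oz h.symm
  have hN : normalizer (zpowers r : Set T) = normalizer (zpowers z : Set T) := by
    refine rig.norm_eq ?_ (Rigid.small_zpowers Nat.prime_two D.oz) hne
      (Rigid.zpowers_ne_bot' Nat.prime_two D.oz) fun α hα v hv => ?_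
    · rw [Nat.card_zpowers, hr4]
      simpa using small_pow_mul_pow Nat.prime_two Nat.prime_two 2 0
    · have hαz : α z ∈ zpowers z := by
        obtain ⟨i, hi⟩ := hα r (mem_zpowers r)
        have hi' : r ^ i = α r := hi
        refine ⟨i, ?_⟩
        show z ^ i = α z
        rw [← h, map_mul, ← hi', (Commute.refl r).mul_zpow]
      obtain ⟨j, rfl⟩ := hv
      show α (z ^ j) ∈ _
      rw [map_zpow]
      exact zpow_mem hαz j
  rw [normalizer_zpowers_invol D.oz] at hN
  have h1 : x * r * x⁻¹ ∈ zpowers r :=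
    mem_normalizer_zpowers.1 (by rw [hN]; exact mem_centralizer_singleton_iff.2 D.comm.symm.eq)
  have h2 : x * r * x⁻¹ * r⁻¹ ∈ zpowers r := mul_mem h1 (inv_mem (mem_zpowers r))
  have h3 : x * r * x⁻¹ * r⁻¹ ∈ zpowers x := by
    have := mul_mem (mem_zpowers x) (inv_mem (D.conj_x_mem rig hrz))
    simpa [mul_assoc] using this
  have h4 : x * r * x⁻¹ * r⁻¹ = 1 := by
    refine eq_one_of_mem_zpowers_of_coprime ?_ h2 h3
    rw [hr4, D.ox]
    exact Nat.Coprime.pow_left _ ((Nat.coprime_primes Nat.prime_two D.hq).2 D.odd.symm)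
  exact (mul_inv_eq_iff_eq_mul.1 (mul_inv_eq_one.1 h4)).symm

include hI in
theorem exists_pair :
    ∃ (u x' : T), GD u x' q ∧ u * u = 1 ∧ Commute u z ∧ u ∉ cen z ∧ z ∉ cen u := by
  obtain ⟨g, hc, hn⟩ := D.exists_mate rig hI
  have D' : GD (g * z * g⁻¹) (g * x * g⁻¹) q :=
    ⟨(orderOf_injective (MulAut.conj g).toMonoidHom (MulAut.conj g).injective z).trans D.oz, D.hq, D.odd,
      (orderOf_injective (MulAut.conj g).toMonoidHom (MulAut.conj g).injective x).trans D.ox,
      D.comm.map (MulAut.conj g).toMonoidHom⟩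
  refine ⟨g * z * g⁻¹, g * x * g⁻¹, D', invol_mul_self D'.oz, hc, hn, fun h => hn ?_⟩
  have e : g⁻¹ * (g * z * g⁻¹) * g⁻¹⁻¹ = z := by group
  have := D'.conj_cen rig (g := g⁻¹) (by rw [e]; exact h)
  rw [e] at this
  rw [← this]
  exact self_mem_cen D.oz

include hI in
theorem cen_eq {t : T} (ht : t ∈ cen z) : t = 1 ∨ t = z := by
  obtain ⟨u, x', D', huu, huz, hun, hzn⟩ := D.exists_pair rig hI
  have hzz := invol_mul_self D.oz
  have key : ∀ w : T, w ∈ cen z → w ∈ cen u → w = 1 := by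
    intro w hw hw'
    by_contra hw1
    haveI := Fact.mk Nat.prime_two
    have hwo : orderOf w = 2 := orderOf_eq_prime (by rw [sq]; exact hw.1) hw1
    have h1 := D.cent_eq rig hwo (hw.2.2 x D.comm.symm).symm
    have h2 := D'.cent_eq rig hwo (hw'.2.2 x' D'.comm.symm).symm
    refine hun ⟨huu, huz, fun m hm => ?_⟩
    exact mem_centralizer_singleton_iff.1 (h2 ▸ h1 ▸ mem_centralizer_singleton_iff.2 hm.eq)
  have htu : Commute t u := (ht.2.2 u huz).symm
  by_cases h : t ∈ cen u
  · exact Or.inl (key t ht h)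
  · have h1 := D'.mul_mem_cen rig ht.1 htu h hzz huz.symm hzn ht.2.1
    have h2 := key _ (mul_mem ht (self_mem_cen D.oz)) h1
    exact Or.inr (by rw [mul_eq_one_iff_eq_inv.1 h2, inv_eq_of_mul_eq_one_right hzz])

end GD

end CfsgLib.Recog.MaxNorm
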